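import Mathlib

/-!
# S3319: the alternating groups (helper3, second round)

`NC X` : no involution of `X` has a centraliser of order `2 ^ 19 * 3465`.
-/

set_option autoImplicit false

namespace Cfsg.Agent.R2.H3

open Subgroup

/-- no involution has a centraliser of order `2 ^ 19 * 3465` -/
def NC (X : Type*) [Group X] : Prop :=
  ∀ f : X, f ≠ 1 → f * f = 1 → Nat.card ↥(centralizer ({f} : Set X)) ≠ 2 ^ 19 * 3465

theorem card_cent_congr {X Y : Type*} [Group X] [Group Y] (e : X ≃* Y) (f : X) :
    Nat.card ↥(centralizer ({e f} : Set Y)) = Nat.card ↥(centralizer ({f} : Set X)) := by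
  refine Nat.card_congr ⟨fun y => ⟨e.symm y, ?_⟩, fun x => ⟨e x, ?_⟩, ?_, ?_⟩
  · have h := y.2
    rw [mem_centralizer_singleton_iff] at h ⊢
    apply e.injective
    rw [map_mul, map_mul, e.apply_symm_apply]
    exact h
  · have h := x.2
    rw [mem_centralizer_singleton_iff] at h ⊢
    rw [← map_mul, h, map_mul]
  · intro y
    exact Subtype.ext (e.apply_symm_apply _)
  · intro x
    exact Subtype.ext (e.symm_apply_apply _)

theorem NC.congr {X Y : Type*} [Group X] [Group Y] (e : X ≃* Y) (h : NC Y) : NC X := by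
  intro f hf hf2 hc
  refine h (e f) (by rwa [Ne, map_eq_one_iff e e.injective]) (by rw [← map_mul, hf2, map_one]) ?_
  rw [card_cent_congr, hc]

/-- by the order -/
theorem NC.of_card {X : Type*} [Group X] (h : ¬ 2 ^ 19 * 3465 ∣ Nat.card X) : NC X := by
  intro f _ _ hc
  apply h
  rw [← hc]
  exact card_subgroup_dvd_card _

/-- the centraliser in a normal subgroup -/
theorem card_cent_dvd {G : Type*} [Group G] [Finite G] {H : Subgroup G} [H.Normal] (f : ↥H) :
    Nat.card ↥(centralizer ({(f : G)} : Set G)) ∣ H.index * Nat.card ↥(centralizer ({f} : Set ↥H)) := by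
  have h1 : Nat.card ↥(centralizer ({f} : Set ↥H)) = Nat.card ↥(H.subgroupOf (centralizer ({(f : G)} : Set G))) := by
    refine Nat.card_congr ⟨fun x => ⟨⟨(x : ↥H), ?_⟩, ?_⟩, fun x => ⟨⟨(x : ↥(centralizer ({(f : G)} : Set G))), ?_⟩, ?_⟩, ?_, ?_⟩
    · have h := x.2
      rw [mem_centralizer_singleton_iff] at h ⊢
      exact congrArg Subtype.val h
    · exact (x : ↥H).2
    · exact x.2
    · have h := x.1.2
      rw [mem_centralizer_singleton_iff] at h ⊢
      exact Subtype.ext h
    · intro x; rfl
    · intro x; rfl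
  rw [h1, ← (H.subgroupOf (centralizer ({(f : G)} : Set G))).index_mul_card]
  refine Nat.mul_dvd_mul_right ?_ _
  exact relIndex_dvd_index_of_normal H _

theorem fact81 {n : ℕ} (h : 11 ∣ n.factorial) : 81 ∣ n.factorial := by
  have h1 : 11 ≤ n := (Nat.Prime.dvd_factorial (by norm_num)).1 h
  exact dvd_trans (by decide) (Nat.factorial_dvd_factorial h1)

theorem card_cent_perm {n : ℕ} (f : Equiv.Perm (Fin n)) (hf : f ≠ 1) (hf2 : f * f = 1) :
    ∃ k : ℕ, Nat.card ↥(centralizer ({f} : Set (Equiv.Perm (Fin n)))) = (n - 2 * k).factorial * 2 ^ k * k.factorial := by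
  have h1 : orderOf f = 2 := orderOf_eq_prime (by rw [pow_two, hf2]) hf
  obtain ⟨k, hk⟩ := Equiv.Perm.cycleType_prime_order (σ := f) (by rw [h1]; exact Nat.prime_two)
  rw [h1] at hk
  refine ⟨k + 1, ?_⟩
  rw [Equiv.Perm.nat_card_centralizer, hk]
  simp only [Fintype.card_fin, Multiset.sum_replicate, Multiset.prod_replicate, smul_eq_mul]
  rw [Multiset.toFinset_replicate, if_neg (Nat.succ_ne_zero k), Finset.prod_singleton, Multiset.count_replicate_self]
  rw [mul_comm (k + 1) 2]

theorem nc_alt (n : ℕ) : NC ↥(alternatingGroup (Fin n)) := by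
  intro f hf hf2 hc
  have h1 := card_cent_dvd (H := alternatingGroup (Fin n)) f
  obtain ⟨k, hk⟩ := card_cent_perm (f : Equiv.Perm (Fin n)) (fun h => hf (Subtype.ext h))
    (congrArg Subtype.val hf2)
  have h2 : (alternatingGroup (Fin n)).index ∣ 2 := by
    have h3 : (alternatingGroup (Fin n)).index = Nat.card ((Equiv.Perm.sign (α := Fin n)).range) :=
      Subgroup.index_ker _
    rw [h3]
    refine (card_subgroup_dvd_card _).trans ?_
    rw [Nat.card_eq_fintype_card, Fintype.card_units_int]
  rw [hc, hk] at h1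
  have h3 : (n - 2 * k).factorial * 2 ^ k * k.factorial ∣ 2 * (2 ^ 19 * 3465) := h1.trans (Nat.mul_dvd_mul_right h2 _)
  have h4 : 11 ∣ (n - 2 * k).factorial * 2 ^ k * k.factorial := by
    rw [← hk]
    have h5 : Nat.card ↥(centralizer ({f} : Set ↥(alternatingGroup (Fin n)))) ∣
        Nat.card ↥(centralizer ({(f : Equiv.Perm (Fin n))} : Set (Equiv.Perm (Fin n)))) := by
      refine Subgroup.card_dvd_of_injective
        (((alternatingGroup (Fin n)).subtype.comp (centralizer ({f} : Set ↥(alternatingGroup (Fin n)))).subtype).codRestrict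
          (centralizer ({(f : Equiv.Perm (Fin n))} : Set (Equiv.Perm (Fin n)))) ?_) ?_
      · intro x
        have h := x.2
        rw [mem_centralizer_singleton_iff] at h ⊢
        exact congrArg Subtype.val h
      · intro x y h
        have h7 := congrArg Subtype.val h
        exact Subtype.ext (Subtype.ext h7)
    refine dvd_trans ?_ h5
    rw [hc]
    norm_num
  have h5 : 81 ∣ (n - 2 * k).factorial * 2 ^ k * k.factorial := by
    have hp : Nat.Prime 11 := by norm_num
    rcases hp.dvd_mul.1 h4 with h | h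
    · rcases hp.dvd_mul.1 h with h | h
      · exact ((fact81 h).mul_right _).mul_right _
      · have := hp.dvd_of_dvd_pow h
        norm_num at this
    · exact (fact81 h).mul_left _
  have h6 := h5.trans h3
  norm_num at h6

end Cfsg.Agent.R2.H3
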