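import Cfsg.Agent.ChevalleyStructure.UnipProd
import Cfsg.Agent.S1027
import Cfsg.Agent.H83.ChevInv
import Cfsg.Agent.R2.H3.Alt

/-!
# S3319: centralisers in the positive unipotent subgroup (helper3, second round)

* `card_prod` : `∏ s k ≤ |H ∩ U|` when there are at least `s k` leading coefficients at each positive root `k`;
* `ne_of_pGroup` : a 2-subgroup of order at least `2 ^ 20` in the centraliser;
* `nc_group` : `NC (D.group F)` from representatives and numbers of commuting roots.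
-/

set_option autoImplicit false

namespace Cfsg.Agent.R2.H3.CentU

open Cfsg.Lie Cfsg.Agent.ChevalleyStructure Cfsg.Agent.ChevalleyStructure.Elts
  Cfsg.Agent.ChevalleyStructure.UnipOrd Cfsg.Agent.ChevalleyStructure.UnipProd
  Cfsg.Agent.H83.ChevInv

universe u

section Count

variable {F : Type u} [Field F] {D : ChevalleyDatum} (hD : UnipOrd.InList D)

theorem lead_unique {k : ℕ} (hk : D.IsPosRoot k) {t t' : F} {v v' : GL D.Idx F} (hv : v ∈ unipGE D F (k + 1))
    (hv' : v' ∈ unipGE D F (k + 1)) (h : xG hD k t * v = xG hD k t' * v') : t = t' := by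
  have hk' := (UnipOrd.isPosRoot_iff hD k).1 hk
  obtain ⟨c, -, rfl⟩ := exists_prod hD (by omega) hv
  obtain ⟨c', -, rfl⟩ := exists_prod hD (by omega) hv'
  have e : ∀ (a : F) (c : ℕ → F), xG hD k a * wordG hD ((rootsGE D (k + 1)).map fun r => (r, c r)) =
      wordG hD ((rootsGE D k).map fun r => (r, if r = k then a else c r)) := by
    intro a c
    rw [rootsGE_cons hk'.2, List.map_cons, wordG_cons]
    show _ = xG hD k (if k = k then a else c k) * _
    rw [if_pos rfl]
    congr 2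
    apply List.map_congr_left
    intro r hr
    have := (List.Ico.mem.1 hr).1
    show (r, c r) = (r, if r = k then a else c r)
    rw [if_neg (by omega)]
  rw [e, e] at h
  have h1 := prod_injective hD hk'.1 h k le_rfl hk'.2
  simpa using h1

theorem card_step [Finite F] (H : Subgroup (GL D.Idx F)) {k : ℕ} (hk : D.IsPosRoot k) (S : Set F)
    (hS : ∀ t ∈ S, ∃ v ∈ unipGE D F (k + 1), xG hD k t * v ∈ H) :
    Nat.card S * Nat.card ↥(H ⊓ unipGE D F (k + 1)) ≤ Nat.card ↥(H ⊓ unipGE D F k) := by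
  classical
  choose! v hv hvH using hS
  have hk' := (UnipOrd.isPosRoot_iff hD k).1 hk
  rw [← Nat.card_prod]
  let f : S × ↥(H ⊓ unipGE D F (k + 1)) → ↥(H ⊓ unipGE D F k) := fun p =>
    ⟨xG hD k (p.1 : F) * v p.1 * (p.2 : GL D.Idx F), mul_mem (hvH _ p.1.2) p.2.2.1,
      mul_mem (mul_mem (xG_mem_unipGE hD hk le_rfl _) (unipGE_antitone D F (Nat.le_succ k) (hv _ p.1.2)))
        (unipGE_antitone D F (Nat.le_succ k) p.2.2.2)⟩
  refine Nat.card_le_card_of_injective f ?_
  rintro ⟨a, w⟩ ⟨b, w'⟩ h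
  have h1 : xG hD k (a : F) * v a * (w : GL D.Idx F) = xG hD k (b : F) * v b * (w' : GL D.Idx F) :=
    congrArg Subtype.val h
  have h2 : (a : F) = b := by
    refine lead_unique hD hk (v := v a * (w : GL D.Idx F)) (v' := v b * (w' : GL D.Idx F))
      (mul_mem (hv _ a.2) w.2.2) (mul_mem (hv _ b.2) w'.2.2) ?_
    rw [← mul_assoc, ← mul_assoc]
    exact h1
  have h3 : a = b := Subtype.ext h2
  subst h3
  have h4 : (w : GL D.Idx F) = w' := mul_left_cancel h1
  rw [Subtype.ext h4]

/-- **The number of elements of `H ∩ U`.** -/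
theorem card_prod [Finite F] (H : Subgroup (GL D.Idx F)) (s : ℕ → ℕ)
    (hs : ∀ k, D.IsPosRoot k → ∃ S : Set F, s k ≤ Nat.card S ∧ ∀ t ∈ S, ∃ v ∈ unipGE D F (k + 1), xG hD k t * v ∈ H) :
    ∏ k ∈ Finset.Ico (D.nroots / 2) D.nroots, s k ≤ Nat.card ↥(H ⊓ D.posUnipotent F) := by
  have key : ∀ m k : ℕ, D.nroots / 2 ≤ k → m = D.nroots - k →
      ∏ j ∈ Finset.Ico k D.nroots, s j ≤ Nat.card ↥(H ⊓ unipGE D F k) := by
    intro m
    induction m with
    | zero =>
      intro k hk hm
      rw [Finset.Ico_eq_empty (by omega), Finset.prod_empty]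
      exact Nat.card_pos
    | succ m ih =>
      intro k hk hm
      have hk' : k < D.nroots := by omega
      have hpos : D.IsPosRoot k := (UnipOrd.isPosRoot_iff hD k).2 ⟨hk, hk'⟩
      rw [Finset.prod_eq_prod_Ico_succ_bot hk']
      obtain ⟨S, hS, hS'⟩ := hs k hpos
      calc s k * ∏ j ∈ Finset.Ico (k + 1) D.nroots, s j ≤ Nat.card S * Nat.card ↥(H ⊓ unipGE D F (k + 1)) :=
            Nat.mul_le_mul hS (ih (k + 1) (by omega) (by omega))
        _ ≤ _ := card_step hD H hpos S hS'
  have h1 := key (D.nroots - D.nroots / 2) (D.nroots / 2) le_rfl rfl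
  rw [unipGE_eq_posUnipotent hD F le_rfl] at h1
  exact h1

/-- with a set `A` of roots -/
theorem card_pow [Finite F] (H : Subgroup (GL D.Idx F)) (A : ℕ → Prop) [DecidablePred A]
    (hA : ∀ k, D.IsPosRoot k → A k → ∀ t : F, xG hD k t ∈ H) :
    Nat.card F ^ ((Finset.Ico (D.nroots / 2) D.nroots).filter A).card ≤ Nat.card ↥(H ⊓ D.posUnipotent F) := by
  have h := card_prod hD H (fun k => if A k then Nat.card F else 1) (fun k hk => ?_)
  · rwa [Finset.prod_ite, Finset.prod_const, Finset.prod_const_one, mul_one] at h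
  · by_cases hAk : A k
    · refine ⟨Set.univ, ?_, fun t _ => ⟨1, one_mem _, by rw [mul_one]; exact hA k hk hAk t⟩⟩
      show (if A k then Nat.card F else 1) ≤ _
      rw [if_pos hAk, Nat.card_univ]
    · refine ⟨{0}, ?_, fun t ht => ⟨1, one_mem _, ?_⟩⟩
      · show (if A k then Nat.card F else 1) ≤ _
        rw [if_neg hAk]
        simp
      · rw [Set.mem_singleton_iff] at ht
        rw [ht, xG_zero, one_mul]
        exact one_mem _

end Count

section Group

/-- a 2-subgroup of the centraliser -/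
theorem ne_of_pGroup {X : Type*} [Group X] [Finite X] (f : X) (P : Subgroup X) (hP : IsPGroup 2 P)
    (hPf : P ≤ Subgroup.centralizer {f}) (h : 2 ^ 20 ≤ Nat.card P) :
    Nat.card ↥(Subgroup.centralizer ({f} : Set X)) ≠ 2 ^ 19 * 3465 := by
  intro hc
  obtain ⟨n, hn⟩ := IsPGroup.iff_card.1 hP
  rw [hn] at h
  have h1 : 20 ≤ n := (Nat.pow_le_pow_iff_right (by norm_num)).1 h
  have h2 : 2 ^ 20 ∣ 2 ^ 19 * 3465 := by
    rw [← hc]
    exact ((pow_dvd_pow 2 h1).trans (by rw [← hn])).trans (Subgroup.card_dvd_of_le hPf)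
  revert h2
  decide

/-- `NC` for a subgroup `G` of `GL`, from representatives -/
theorem nc_of_reps {Y : Type*} [Group Y] [Finite Y] (G U : Subgroup Y) (hU : IsPGroup 2 ↥(G ⊓ U))
    (h : ∀ t ∈ G, t * t = 1 → t ≠ 1 → ∃ g ∈ G, ∃ y, g * t * g⁻¹ = y ∧
      2 ^ 20 ≤ Nat.card ↥(Subgroup.centralizer {y} ⊓ (G ⊓ U))) : NC ↥G := by
  rintro ⟨t, ht⟩ hne hsq
  obtain ⟨g, hg, y, hy, hc⟩ := h t ht (congrArg Subtype.val hsq) (fun e => hne (Subtype.ext e))
  have hyG : y ∈ G := by rw [← hy]; exact mul_mem (mul_mem hg ht) (inv_mem hg)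
  have e1 : MulAut.conj (⟨g, hg⟩ : ↥G) ⟨t, ht⟩ = ⟨y, hyG⟩ := Subtype.ext hy
  rw [← card_cent_congr (MulAut.conj (⟨g, hg⟩ : ↥G)) ⟨t, ht⟩, e1]
  have hle : Subgroup.centralizer {y} ⊓ (G ⊓ U) ≤ G := inf_le_right.trans inf_le_left
  have e2 := Subgroup.subgroupOfEquivOfLe hle
  refine ne_of_pGroup _ ((Subgroup.centralizer {y} ⊓ (G ⊓ U)).subgroupOf G) ?_ ?_ ?_
  · have h1 : IsPGroup 2 ↥(Subgroup.centralizer {y} ⊓ (G ⊓ U)) := hU.to_le inf_le_right
    exact h1.of_injective e2.toMonoidHom e2.injective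
  · intro z hz
    rw [Subgroup.mem_centralizer_singleton_iff]
    have h1 : (z : Y) ∈ Subgroup.centralizer {y} := (Subgroup.mem_subgroupOf.1 hz).1
    rw [Subgroup.mem_centralizer_singleton_iff] at h1
    exact Subtype.ext h1
  · rw [Nat.card_congr e2.toEquiv]
    exact hc

variable {F : Type u} [Field F] [Fintype F] [CharP F 2] {D : ChevalleyDatum} (hD : UnipOrd.InList D)

include hD in
theorem pGroup_U : IsPGroup 2 ↥(D.posUnipotent F) := by
  obtain ⟨⟨m, hm⟩, hp, hcard⟩ := FiniteField.card F 2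
  simp only [PNat.mk_coe] at hcard
  have h1 : Nat.card (D.posUnipotent F) = Fintype.card F ^ (D.nroots / 2) := Cfsg.Agent.S1027.result D hD
  exact IsPGroup.of_card (n := m * (D.nroots / 2)) (by rw [h1, hcard, pow_mul])

/-- the roots commuting with all the roots of `R` -/
def ca (D : ChevalleyDatum) (R : List ℕ) (k : ℕ) : Bool := R.all fun b => (k == b) || (D.commTerms k b).isEmpty

/-- all positive -/
def ok (D : ChevalleyDatum) (R : List ℕ) : Bool := R.all fun b => decide (D.nroots / 2 ≤ b) && decide (b < D.nroots)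

omit [Fintype F] [CharP F 2] in
theorem comm_of_empty {k b : ℕ} (hk : D.IsPosRoot k) (hb : D.IsPosRoot b) (h : D.commTerms k b = []) (t u : F) :
    xG hD b u * xG hD k t = xG hD k t * xG hD b u := by
  by_cases hkb : b = k
  · subst hkb
    rw [xG_add, xG_add, add_comm]
  · rw [UnipProd.xG_comm hD hk.1 hb.1 hkb (ne_neg_of_pos hD hk hb)]
    unfold ChevalleyDatum.commWord
    rw [h, List.map_nil, wordG_nil, mul_one]

omit [Fintype F] [CharP F 2] in
theorem comm_PX' {R : List ℕ} (hR : ok D R = true) {k : ℕ} (hk : D.IsPosRoot k) (h : ca D R k = true) (t : F) :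
    xG hD k t ∈ Subgroup.centralizer {PX hD F R} := by
  rw [Subgroup.mem_centralizer_singleton_iff]
  unfold ok at hR
  unfold ca at h
  induction R with
  | nil => rw [PX_nil, mul_one, one_mul]
  | cons b R ih =>
    rw [List.all_cons, Bool.and_eq_true] at hR h
    rw [PX_cons]
    have ih' := ih hR.2 h.2
    have hb : D.IsPosRoot b := by
      have h1 := hR.1
      rw [Bool.and_eq_true, decide_eq_true_eq, decide_eq_true_eq] at h1
      exact (UnipOrd.isPosRoot_iff hD b).2 h1
    have h1 : xG hD b 1 * xG hD k t = xG hD k t * xG hD b 1 := by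
      have h2 := h.1
      rw [Bool.or_eq_true] at h2
      rcases h2 with h2 | h2
      · rw [beq_iff_eq] at h2
        subst h2
        rw [xG_add, xG_add, add_comm]
      · exact comm_of_empty hD hk hb (List.isEmpty_iff.1 h2) _ _
    rw [← mul_assoc, ← h1, mul_assoc, ih', mul_assoc]

/-- the number of commuting positive roots -/
def nca (D : ChevalleyDatum) (R : List ℕ) : ℕ := ((List.Ico (D.nroots / 2) D.nroots).filter (ca D R)).length

theorem card_filter_eq (R : List ℕ) :
    ((Finset.Ico (D.nroots / 2) D.nroots).filter fun k => ca D R k = true).card = nca D R := by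
  unfold nca
  rw [← List.toFinset_card_of_nodup ((List.Ico.nodup _ _).filter _)]
  congr 1
  ext k
  rw [Finset.mem_filter, List.mem_toFinset, List.mem_filter, Finset.mem_Ico, List.Ico.mem]

omit [CharP F 2] in
/-- **the bound for `C_U(f)`** -/
theorem card_cent_U {R : List ℕ} (hR : ok D R = true) {n : ℕ} (hn : n ≤ nca D R) :
    Nat.card F ^ n ≤ Nat.card ↥(Subgroup.centralizer {PX hD F R} ⊓ D.posUnipotent F) := by
  have h := card_pow hD (F := F) (Subgroup.centralizer {PX hD F R}) (fun k => ca D R k = true)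
    fun k hk hA t => comm_PX' hD hR hk hA t
  rw [card_filter_eq] at h
  exact (Nat.pow_le_pow_right Nat.card_pos hn).trans h

/-- **the untwisted groups** -/
theorem nc_group {reps : List (List ℕ)} {n : ℕ} (hn : 2 ^ 20 ≤ Fintype.card F ^ n)
    (hrep : ∀ t ∈ D.group F, t * t = 1 → t ≠ 1 → ∃ R ∈ reps, ∃ g ∈ D.group F, g * t * g⁻¹ = PX hD F R)
    (hok : ∀ R ∈ reps, ok D R = true ∧ n ≤ nca D R) : NC ↥(D.group F) := by
  refine nc_of_reps (D.group F) (D.posUnipotent F) ((pGroup_U hD).to_le inf_le_right) ?_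
  intro t ht h2 h1
  obtain ⟨R, hR, g, hg, e⟩ := hrep t ht h2 h1
  refine ⟨g, hg, _, e, ?_⟩
  rw [inf_eq_right.2 (posUnipotent_le_group hD F)]
  have h := card_cent_U hD (F := F) (hok R hR).1 (hok R hR).2
  rw [Nat.card_eq_fintype_card (α := F)] at h
  exact hn.trans h

end Group

end Cfsg.Agent.R2.H3.CentU
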