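import Cfsg.Agent.R2.H3.Quot
import Cfsg.Agent.R2.H3.JorNum

/-!
# S3319: the linear groups in characteristic 2 (helper3, second round)
-/

set_option autoImplicit false

namespace Cfsg.Agent.R2.H3.Lin

open Subgroup Cfsg Cfsg.Agent.R2.H3 Cfsg.Agent.R2.H3.Jor Cfsg.Agent.R2.H3.JorNum

theorem cent_range {X Y : Type*} [Group X] [Group Y] [Finite Y] (ι : X →* Y) (hι : Function.Injective ι)
    (hn : ι.range.Normal) (t : X) : ∃ d, d ∣ ι.range.index ∧
      Nat.card ↥(centralizer ({ι t} : Set Y)) = d * Nat.card ↥(centralizer ({t} : Set X)) := by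
  have h1 : Nat.card ↥(centralizer ({t} : Set X)) = Nat.card ↥(ι.range.subgroupOf (centralizer ({ι t} : Set Y))) := by
    refine Nat.card_congr (Equiv.ofBijective (fun x => ⟨⟨ι x, ?_⟩, ?_⟩) ⟨?_, ?_⟩)
    · have h := x.2
      rw [mem_centralizer_singleton_iff] at h ⊢
      rw [← map_mul, h, map_mul]
    · exact ⟨x, rfl⟩
    · intro x y h
      have h2 := congrArg Subtype.val (congrArg Subtype.val h)
      exact Subtype.ext (hι h2)
    · rintro ⟨⟨y, hy⟩, x, hx⟩
      change ι x = y at hx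
      subst hx
      refine ⟨⟨x, ?_⟩, rfl⟩
      rw [mem_centralizer_singleton_iff] at hy ⊢
      apply hι
      rw [map_mul, map_mul, hy]
  refine ⟨ι.range.relIndex (centralizer ({ι t} : Set Y)), relIndex_dvd_index_of_normal _ _, ?_⟩
  rw [h1]
  exact (ι.range.subgroupOf (centralizer ({ι t} : Set Y))).index_mul_card.symm

theorem gl_eq {q : ℕ} (hq : Even q) (hq0 : 0 < q) (a : ℕ) : ∃ m, Odd m ∧ gl q a = q ^ (a * (a - 1) / 2) * m := by
  refine ⟨∏ j ∈ Finset.range a, (q ^ (a - j) - 1), odd_prod _ _ fun j hj => odd_sub hq hq0 ?_, ?_⟩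
  · rw [Finset.mem_range] at hj
    omega
  · rw [gl, Fin.prod_univ_eq_prod_range (fun j => q ^ a - q ^ j) a, ← Finset.sum_range_id, ← Finset.prod_pow_eq_pow_sum,
      ← Finset.prod_mul_distrib]
    apply Finset.prod_congr rfl
    intro j hj
    rw [Finset.mem_range] at hj
    rw [Nat.mul_sub, mul_one, ← pow_add]
    congr 2
    omega

theorem numL {k a r : ℕ} (hr : r ≠ 0)
    (h : k * (2 * (a * r) + r ^ 2 + a * (a - 1) / 2 + r * (r - 1) / 2) = 19) : k = 19 ∧ a = 0 ∧ r = 1 := by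
  have h4 : k ≠ 0 := by rintro rfl; omega
  have h5 : 1 * (2 * (a * r) + r ^ 2 + a * (a - 1) / 2 + r * (r - 1) / 2) ≤ 19 := by
    rw [← h]
    exact Nat.mul_le_mul_right _ (by omega)
  have h2 : r < 5 := by
    by_contra hcon
    have h3 : 25 ≤ r ^ 2 := by nlinarith
    omega
  have h6 : a < 10 := by
    by_contra hcon
    have h3 : 20 ≤ 2 * (a * r) := by
      have : 10 * 1 ≤ a * r := Nat.mul_le_mul (by omega) (by omega)
      omega
    omega
  rcases prime_cases h with ⟨rfl, h7⟩ | ⟨rfl, h7⟩ <;> interval_cases r <;> interval_cases a <;> omega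

/-- the centraliser of an involution of `SL` -/
theorem sl_num {F : Type*} [Field F] [Fintype F] [CharP F 2] {n : Type*} [Fintype n] [DecidableEq n]
    {A : Matrix n n F} (hA1 : A ≠ 1) (hA2 : A * A = 1) :
    ∃ t, ∃ d : Fin t → ℕ, (∀ k, 1 ≤ d k) ∧ (∀ k, d k ≤ 2) ∧ cn d 2 ≠ 0 ∧
      ∃ e : ((k : Fin t) × Fin (d k)) ≃ n, IsConj (Matrix.reindex e e (Cfsg.jordanTypeMatrix d F)) A := by
  obtain ⟨t, d, e, h1, h2, h3⟩ := exists_jordan A hA2
  refine ⟨t, d, h1, h2, ?_, e, h3⟩
  intro h0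
  apply hA1
  have h4 : ∀ k, d k = 1 := by
    intro k
    have h5 : k ∉ Finset.univ.filter (fun k : Fin t => d k = 2) := by
      rw [cn, Finset.card_eq_zero] at h0
      rw [h0]
      exact Finset.notMem_empty k
    rw [Finset.mem_filter] at h5
    have := h1 k
    have := h2 k
    have h6 : d k ≠ 2 := fun h => h5 ⟨Finset.mem_univ k, h⟩
    omega
  have h5 : Cfsg.jordanTypeMatrix d F = 1 := by
    ext ⟨k, i⟩ ⟨l, j⟩
    rw [Cfsg.jordanTypeMatrix]
    by_cases hkl : k = l
    · subst hkl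
      rw [Matrix.blockDiagonal'_apply_eq, Cfsg.jordanBlock, Matrix.of_apply]
      have hi : (i : ℕ) = 0 := by have := i.2; have := h4 k; omega
      have hj : (j : ℕ) = 0 := by have := j.2; have := h4 k; omega
      have hij : i = j := Fin.ext (by omega)
      subst hij
      simp
    · rw [Matrix.blockDiagonal'_apply_ne _ _ _ hkl, Matrix.one_apply_ne]
      intro h
      exact hkl (congrArg Sigma.fst h)
  rw [h5] at h3
  have h6 : Matrix.reindex e e (1 : Matrix ((k : Fin t) × Fin (d k)) ((k : Fin t) × Fin (d k)) F) = 1 := by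
    simp
  rw [h6] at h3
  exact isConj_one_right.1 h3

theorem nc_sl {F : Type} [Field F] [Fintype F] [CharP F 2] {n : ℕ} :
    NC (Matrix.ProjectiveSpecialLinearGroup (Fin n) F) := by
  classical
  intro f hf hf2 hc
  obtain ⟨k, hk, hF⟩ := card_two_pow F
  have hq : Even (2 ^ k) := even_two.pow_of_ne_zero hk
  have hq0 : 0 < 2 ^ k := by positivity
  have hodd : Odd (Nat.card Fˣ) := by
    rw [Nat.card_eq_fintype_card, Fintype.card_units, hF]
    have := odd_sub (k := 1) hq hq0 (by norm_num)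
    rwa [pow_one] at this
  have hcen : Odd (Nat.card ↥(center (Matrix.SpecialLinearGroup (Fin n) F))) := by
    rw [Nat.card_congr (Matrix.SpecialLinearGroup.center_equiv_rootsOfUnity (n := Fin n) (R := F)).toEquiv]
    exact hodd.of_dvd_nat (card_subgroup_dvd_card _)
  obtain ⟨t, ht1, ht2, ht3⟩ := exists_lift hcen f hf hf2
  rw [hc] at ht3
  have hA1 : (t : Matrix (Fin n) (Fin n) F) ≠ 1 := fun h => ht1 (Subtype.ext h)
  have hA2 : (t : Matrix (Fin n) (Fin n) F) * (t : Matrix (Fin n) (Fin n) F) = 1 := congrArg Subtype.val ht2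
  obtain ⟨T, d, h1, h2, h3, e, h4⟩ := sl_num hA1 hA2
  have hinj : Function.Injective (Matrix.SpecialLinearGroup.toGL : Matrix.SpecialLinearGroup (Fin n) F →* GL (Fin n) F) := by
    intro a b hab
    exact Subtype.ext (congrArg Units.val hab)
  have hker : (Matrix.SpecialLinearGroup.toGL : Matrix.SpecialLinearGroup (Fin n) F →* GL (Fin n) F).range =
      (Matrix.GeneralLinearGroup.det : GL (Fin n) F →* Fˣ).ker := by
    ext g
    constructor
    · rintro ⟨s, rfl⟩
      rw [MonoidHom.mem_ker]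
      apply Units.ext
      exact s.2
    · intro h
      rw [MonoidHom.mem_ker] at h
      exact ⟨⟨g, congrArg Units.val h⟩, Units.ext rfl⟩
  obtain ⟨r, hr1, hr2⟩ := cent_range _ hinj (by rw [hker]; infer_instance) t
  have hr : Odd r := by
    refine hodd.of_dvd_nat (hr1.trans ?_)
    rw [hker, index_ker]
    exact card_subgroup_dvd_card _
  have h5 := card_gl h1 h2 h3 e (Matrix.SpecialLinearGroup.toGL t) h4
  obtain ⟨m1, hm1, h6⟩ := gl_eq hq hq0 (cn d 1)
  obtain ⟨m2, hm2, h7⟩ := gl_eq hq hq0 (cn d 2)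
  rw [hr2, ht3, hF, h6, h7] at h5
  have h8 := two_part' (k := k) (E := 2 * (cn d 1 * cn d 2) + cn d 2 ^ 2 + cn d 1 * (cn d 1 - 1) / 2 +
    cn d 2 * (cn d 2 - 1) / 2) (m := m1 * m2) (hr.mul hcen) (hm1.mul hm2) (by
      rw [pow_add, pow_add]
      calc _ = r * (2 ^ 19 * 3465 * Nat.card ↥(center (Matrix.SpecialLinearGroup (Fin n) F))) := by ring
        _ = _ := by rw [h5]; ring)
  obtain ⟨rfl, ha, hb⟩ := numL h3 h8
  rw [← h6, ← h7, ha, hb] at h5
  have h9 : 3465 ∣ (2 ^ 19) ^ (2 * (0 * 1) + 1 ^ 2) * (gl (2 ^ 19) 0 * gl (2 ^ 19) 1) := by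
    rw [← h5]
    exact ⟨r * 2 ^ 19 * Nat.card ↥(center (Matrix.SpecialLinearGroup (Fin n) F)), by ring⟩
  simp only [gl, Finset.univ_eq_empty, Finset.prod_empty, Fin.prod_univ_one] at h9
  norm_num at h9

end Cfsg.Agent.R2.H3.Lin
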