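import Cfsg.Agent.R2.H3.Quot
import Cfsg.Agent.S2684
import Cfsg.Agent.S2685
import Cfsg.Agent.S2169
import Cfsg.Agent.S0287
import Cfsg.Agent.S0293

/-!
# S3319: the orthogonal groups of plus type in characteristic 2 (helper3, second round)
-/

set_option autoImplicit false

namespace Cfsg.Agent.R2.H3.OPlus

open Subgroup Cfsg Cfsg.Agent.R2.H3

theorem numA {k a s : ℕ} (hs : Even s) (hs0 : s ≠ 0)
    (h : k * (2 * (s + a) * s - (3 * s ^ 2 + s) / 2 + (s / 2) ^ 2 + a * (a - 1)) = 19) : False := by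
  have h1 : 2 * (s + a) * s = 2 * s ^ 2 + 2 * (a * s) := by ring
  rw [h1] at h
  have h4 : k ≠ 0 := by rintro rfl; omega
  have h5 : 1 * (2 * s ^ 2 + 2 * (a * s) - (3 * s ^ 2 + s) / 2 + (s / 2) ^ 2 + a * (a - 1)) ≤ 19 := by
    rw [← h]
    exact Nat.mul_le_mul_right _ (by omega)
  have h2 : s < 9 := by
    by_contra hcon
    have h3 : 9 * s ≤ s ^ 2 := by nlinarith
    omega
  have h6 : a < 6 := by
    by_contra hcon
    have h3 : 6 * 5 ≤ a * (a - 1) := Nat.mul_le_mul (by omega) (by omega)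
    omega
  rcases prime_cases h with ⟨rfl, h7⟩ | ⟨rfl, h7⟩ <;> interval_cases s <;> interval_cases a <;>
    first | omega | (exfalso; revert hs; decide)

theorem numB {k a s : ℕ} (hs : Even s) (hs0 : s ≠ 0)
    (h : k * (2 * (s + a) * (s - 1) - (3 * s ^ 2 - 5 * s) / 2 - 1 + ((s - 2) / 2) ^ 2 + a ^ 2) = 19) : False := by
  obtain ⟨r, rfl⟩ : ∃ r, s = r + 1 := ⟨s - 1, by omega⟩
  have h1 : 2 * (r + 1 + a) * (r + 1 - 1) = 2 * r ^ 2 + 2 * r + 2 * (a * r) := by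
    rw [Nat.add_sub_cancel]; ring
  have h1' : 3 * (r + 1) ^ 2 - 5 * (r + 1) = 3 * r ^ 2 + r - 2 := by
    have : 3 * (r + 1) ^ 2 = 3 * r ^ 2 + 6 * r + 3 := by ring
    omega
  rw [h1, h1'] at h
  have h4 : k ≠ 0 := by rintro rfl; omega
  have h5 : 1 * (2 * r ^ 2 + 2 * r + 2 * (a * r) - (3 * r ^ 2 + r - 2) / 2 - 1 + ((r + 1 - 2) / 2) ^ 2 + a ^ 2) ≤ 19 := by
    rw [← h]
    exact Nat.mul_le_mul_right _ (by omega)
  have h2 : r < 8 := by
    by_contra hcon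
    have h3 : 8 * r ≤ r ^ 2 := by nlinarith
    omega
  have h6 : a < 5 := by
    by_contra hcon
    have h3 : 5 * 5 ≤ a ^ 2 := by nlinarith
    omega
  rcases prime_cases h with ⟨rfl, h7⟩ | ⟨rfl, h7⟩ <;> interval_cases r <;> interval_cases a <;>
    first | omega | (exfalso; revert hs; decide)

theorem rank_le {F : Type} [Field F] [CharP F 2] (m : ℕ) :
    ∀ x : ↥(Cfsg.isometryGroup F (Cfsg.quadFormPlus m F)), x * x = 1 →
      ((((x : ↥(Cfsg.isometryGroup F (Cfsg.quadFormPlus m F))) : GL (Fin m ⊕ Fin m) F) :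
        Matrix (Fin m ⊕ Fin m) (Fin m ⊕ Fin m) F) - 1).rank ≤ m := by
  have h1 : ∀ x : ↥(Cfsg.isometryGroup F (⇑(Cfsg.Agent.LieClassical.OrthForms.plusForm m F))), x * x = 1 →
      ((((x : ↥(Cfsg.isometryGroup F (⇑(Cfsg.Agent.LieClassical.OrthForms.plusForm m F)))) : GL (Fin m ⊕ Fin m) F) :
        Matrix (Fin m ⊕ Fin m) (Fin m ⊕ Fin m) F) - 1).rank ≤ m := by
    intro x hx
    rw [Cfsg.Agent.H196.rank_eq]
    exact Cfsg.Agent.H196.Final.two_mul_rank_le x hx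
  rw [Cfsg.Agent.LieClassical.OrthForms.coe_plusForm] at h1
  exact h1

/-- the centraliser in a subgroup -/
theorem card_sub {G : Type*} [Group G] (K : Subgroup G) (f : ↥K) :
    Nat.card ↥(centralizer ({f} : Set ↥K)) = Nat.card {g : ↥K // (g : G) * (f : G) = (f : G) * (g : G)} := by
  refine Nat.card_congr (Equiv.subtypeEquivRight fun g => ?_)
  rw [mem_centralizer_singleton_iff]
  constructor
  · intro h; exact congrArg Subtype.val h
  · intro h; exact Subtype.ext h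

theorem nc_omega {F : Type} [Field F] [Fintype F] [CharP F 2] {m : ℕ} (hm : 4 ≤ m) :
    NC ↥(Cfsg.Omega F (Cfsg.quadFormPlus m F)) := by
  intro f hf hf2 hc
  obtain ⟨k, hk, hF⟩ := card_two_pow F
  have hq : Even (2 ^ k) := even_two.pow_of_ne_zero hk
  have hq0 : 0 < 2 ^ k := by positivity
  have hx1 : (f : ↥(Cfsg.isometryGroup F (Cfsg.quadFormPlus m F))) ≠ 1 := fun h => hf (Subtype.ext h)
  have hx2 : (f : ↥(Cfsg.isometryGroup F (Cfsg.quadFormPlus m F))) ^ 2 = 1 := by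
    rw [pow_two]; exact congrArg Subtype.val hf2
  obtain ⟨s, hs⟩ : ∃ s, ((((f : ↥(Cfsg.isometryGroup F (Cfsg.quadFormPlus m F))) : GL (Fin m ⊕ Fin m) F) :
    Matrix (Fin m ⊕ Fin m) (Fin m ⊕ Fin m) F) - 1).rank = s := ⟨_, rfl⟩
  have he : Even s := by
    rw [← hs]
    exact (Cfsg.Agent.S2169.result hm _ (orderOf_eq_prime hx2 hx1)).1 f.2
  have hsm : s ≤ m := by
    rw [← hs]
    exact rank_le m _ (by rw [← pow_two]; exact hx2)
  obtain ⟨a, rfl⟩ := Nat.exists_eq_add_of_le hsm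
  have hs0 : s ≠ 0 := by
    rintro rfl
    apply hx1
    have h1 := eq_zero_of_rank hs
    exact Subtype.ext (Units.ext (sub_eq_zero.1 h1))
  have hm2 : Fintype.card F ≠ 2 ∨ s + a ≠ 2 := Or.inr (by omega)
  rw [card_sub] at hc
  by_cases halt : ∀ v : Fin (s + a) ⊕ Fin (s + a) → F, Cfsg.quadFormPlus (s + a) F (((((f : ↥(Cfsg.isometryGroup F
      (Cfsg.quadFormPlus (s + a) F))) : GL (Fin (s + a) ⊕ Fin (s + a)) F) :
      Matrix (Fin (s + a) ⊕ Fin (s + a)) (Fin (s + a) ⊕ Fin (s + a)) F) - 1).mulVec v) = 0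
  · rw [Cfsg.Agent.S2684.result hF hm2 _ hx2 hx1 hs he halt, Nat.add_sub_cancel_left] at hc
    have h0 : (if s = s + a then 1 else (2 ^ k) ^ (a * (a - 1)) * ((2 ^ k) ^ a - 1) *
        ∏ i : Fin (a - 1), ((2 ^ k) ^ (2 * ((i : ℕ) + 1)) - 1)) = (2 ^ k) ^ (a * (a - 1)) *
        (if a = 0 then 1 else ((2 ^ k) ^ a - 1) * ∏ i : Fin (a - 1), ((2 ^ k) ^ (2 * ((i : ℕ) + 1)) - 1)) := by
      by_cases h : a = 0
      · subst h; simp
      · rw [if_neg (by omega), if_neg h]; ring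
    rw [h0] at hc
    have h1 := two_part (k := k) (E := 2 * (s + a) * s - (3 * s ^ 2 + s) / 2 + (s / 2) ^ 2 + a * (a - 1))
      (m := (∏ i : Fin (s / 2), ((2 ^ k) ^ (2 * ((i : ℕ) + 1)) - 1)) *
        (if a = 0 then 1 else ((2 ^ k) ^ a - 1) * ∏ i : Fin (a - 1), ((2 ^ k) ^ (2 * ((i : ℕ) + 1)) - 1)))
      ((odd_sp hq hq0 _).mul (by
        split_ifs with h
        · exact odd_one
        · exact (odd_sub hq hq0 h).mul (odd_sp hq hq0 _))) (by rw [← hc, pow_add, pow_add]; ring)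
    exact numA he hs0 h1.1
  · push Not at halt
    rw [Cfsg.Agent.S2685.result hF hm2 _ hx2 hs he halt, Nat.add_sub_cancel_left] at hc
    have h1 := two_part (k := k) (E := 2 * (s + a) * (s - 1) - (3 * s ^ 2 - 5 * s) / 2 - 1 + ((s - 2) / 2) ^ 2 + a ^ 2)
      (m := (∏ i : Fin ((s - 2) / 2), ((2 ^ k) ^ (2 * ((i : ℕ) + 1)) - 1)) *
        ∏ i : Fin a, ((2 ^ k) ^ (2 * ((i : ℕ) + 1)) - 1))
      ((odd_sp hq hq0 _).mul (odd_sp hq hq0 _)) (by rw [← hc, pow_add, pow_add]; ring)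
    exact numB he hs0 h1.1

end Cfsg.Agent.R2.H3.OPlus
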