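import Cfsg.Agent.R2.H3.OMCount
import Cfsg.Agent.R2.H3.OPlus
import Cfsg.Agent.H196.SymForm2

/-!
# S3319: the orthogonal groups of minus type in characteristic 2 (helper3, second round)
-/

set_option autoImplicit false
set_option linter.unusedSectionVars false

namespace Cfsg.Agent.R2.H3.OMinus

open QuadraticMap Matrix Module
open Cfsg.Agent.ClassicalGeometry.Reflection
open Cfsg.Agent.ClassicalGeometry.OrthCharTwo
open Cfsg.Agent.H177.InvolGroup
open Cfsg.Agent.H177.InvolForms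
open Cfsg.Agent.LieClassical.OrthForms
open Cfsg.Agent.H196 Cfsg.Agent.H196.SymForm Cfsg.Agent.R2.H3 Cfsg.Agent.R2.H3.OMStd Cfsg.Agent.R2.H3.OMCount

theorem numA {k a s : ℕ} (hs : Even s) (hs0 : s ≠ 0)
    (h : k * (s * (s - 1) / 2 + 2 * s * a + (s / 2) ^ 2 + a * (a - 1)) = 19) : False := by
  have h4 : k ≠ 0 := by rintro rfl; omega
  have h5 : 1 * (s * (s - 1) / 2 + 2 * s * a + (s / 2) ^ 2 + a * (a - 1)) ≤ 19 := by
    rw [← h]
    exact Nat.mul_le_mul_right _ (by omega)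
  have h2 : s < 7 := by
    by_contra hcon
    have h3 : 7 * 6 ≤ s * (s - 1) := Nat.mul_le_mul (by omega) (by omega)
    omega
  have h6 : a < 6 := by
    by_contra hcon
    have h3 : 6 * 5 ≤ a * (a - 1) := Nat.mul_le_mul (by omega) (by omega)
    omega
  rcases prime_cases h with ⟨rfl, h7⟩ | ⟨rfl, h7⟩ <;> interval_cases s <;> interval_cases a <;>
    first | omega | (exfalso; revert hs; decide)

/-- 2-part of `cON` -/
def eON (k : ℕ) : ℕ := if Even k then (k / 2) ^ 2 else k + (k / 2) ^ 2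

theorem cON_eq {q : ℕ} (hq : Even q) (hq0 : 0 < q) (k : ℕ) : ∃ m, Odd m ∧ cON q (k + 1) = q ^ eON k * m := by
  rcases Nat.even_or_odd' k with ⟨t, rfl | rfl⟩
  · rw [cON_odd, cSp, eON, if_pos (even_two_mul t), Nat.mul_div_cancel_left _ (by norm_num)]
    exact ⟨_, odd_prod _ _ fun i _ => odd_sub hq hq0 (by omega), rfl⟩
  · rw [show 2 * t + 1 + 1 = 2 * t + 2 by ring, cON_even, cSp, eON, if_neg (by
      rw [Nat.not_even_iff_odd]; exact ⟨t, rfl⟩), show (2 * t + 1) / 2 = t by omega]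
    refine ⟨_, odd_prod (Finset.range t) (fun i => q ^ (2 * (i + 1)) - 1) fun i _ => odd_sub hq hq0 (by omega), ?_⟩
    rw [pow_add]
    ring

theorem numB {f a k : ℕ} (hm : 4 ≤ k + 1 + a)
    (h : f * (eON k + (k * (k - 1) / 2 + 2 * k * a + k + a ^ 2)) = 19) : False := by
  have h4 : f ≠ 0 := by rintro rfl; omega
  have h5 : 1 * (eON k + (k * (k - 1) / 2 + 2 * k * a + k + a ^ 2)) ≤ 19 := by
    rw [← h]
    exact Nat.mul_le_mul_right _ (by omega)
  have h2 : k < 7 := by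
    by_contra hcon
    have h3 : 7 * 6 ≤ k * (k - 1) := Nat.mul_le_mul (by omega) (by omega)
    omega
  have h6 : a < 5 := by
    by_contra hcon
    have h3 : 5 * 5 ≤ a ^ 2 := by nlinarith
    omega
  have e0 : eON 0 = 0 := by decide
  have e1 : eON 1 = 1 := by decide
  have e2 : eON 2 = 1 := by decide
  have e3 : eON 3 = 4 := by decide
  have e4 : eON 4 = 4 := by decide
  have e5 : eON 5 = 9 := by decide
  have e6 : eON 6 = 9 := by decide
  rcases prime_cases h with ⟨rfl, h7⟩ | ⟨rfl, h7⟩ <;> interval_cases k <;> interval_cases a <;> omega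

variable {F : Type} [Field F] [Fintype F] [CharP F 2] {a b : F}

/-- the main computation -/
theorem main (hab : ∀ z₁ z₂ : F, z₁ ^ 2 + a * z₁ * z₂ + b * z₂ ^ 2 = 0 → z₁ = 0 ∧ z₂ = 0) {w : ℕ} (hw : 3 ≤ w)
    (x : Cfsg.isometryGroup F (⇑(minusForm w F a b))) (hx1 : x ≠ 1) (hx : x * x = 1)
    (hc : Nat.card {g : Cfsg.Omega F (⇑(minusForm w F a b)) //
        (g : Cfsg.isometryGroup F (⇑(minusForm w F a b))) * x
          = x * (g : Cfsg.isometryGroup F (⇑(minusForm w F a b)))} = 2 ^ 19 * 3465) : False := by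
  obtain ⟨f, hf, hF⟩ := card_two_pow F
  have hqe : Even (2 ^ f) := even_two.pow_of_ne_zero hf
  have hq0 : 0 < 2 ^ f := by positivity
  have hF' : Nat.card F = 2 ^ f := by rw [Nat.card_eq_fintype_card, hF]
  have hQ := minus_nondegenerate a b w hab
  have hgood : (∃ θ : F, θ ≠ 0 ∧ θ ≠ 1) ∨ Fintype.card ((Fin w ⊕ Fin w) ⊕ Fin 2) ≠ 4 := by
    right
    rw [Fintype.card_sum, Fintype.card_sum, Fintype.card_fin, Fintype.card_fin]
    omega
  obtain ⟨γ, hγ, h1, hS, h2⟩ := Cfsg.Agent.H177.InvolOrth.exists_gamma (minusForm w F a b) (nMap x)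
    (nMap_nMap _ x hx) (Q_add_nMap _ x) hQ
  have h3 := card_centralizer (minusForm w F a b) hQ x hx γ hγ h1 h2
  have hpol : ∀ y ∈ LinearMap.range (nMap x), ∀ z ∈ LinearMap.range (nMap x),
      polar (minusForm w F a b) y z = 0 := by
    rintro _ ⟨y, rfl⟩ _ ⟨z, rfl⟩
    exact Cfsg.Agent.H177.InvolOrth.polar_N_N (minusForm w F a b) (nMap x)
      (nMap_nMap _ x hx) (Q_add_nMap _ x) y z
  obtain ⟨s, hs⟩ : ∃ s, finrank F (LinearMap.range (nMap x)) = s := ⟨_, rfl⟩
  have hs0 : s ≠ 0 := by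
    rintro rfl
    apply hx1
    have h4 : LinearMap.range (nMap x) = ⊥ := Submodule.finrank_eq_zero.1 hs
    have h5 : nMap x = 0 := LinearMap.range_eq_bot.1 h4
    apply act_ext
    intro v
    have h6 := LinearMap.congr_fun h5 v
    rw [nMap_apply, LinearMap.zero_apply, sub_eq_zero] at h6
    rw [h6]
    exact (act_one v).symm
  have hsw : s ≤ w + 1 := by
    have h4 := Cfsg.Agent.H177.InvolCount.two_mul_finrank_res_le (minusForm w F a b) x hx
    rw [← range_nMap, hs, Fintype.card_sum, Fintype.card_sum, Fintype.card_fin, Fintype.card_fin] at h4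
    omega
  by_cases hsing : ∀ y ∈ LinearMap.range (nMap x), minusForm w F a b y = 0
  · -- totally singular
    have hA : γ.IsAlt := fun y => by rw [h2]; exact hsing y y.2
    have hle := finrank_le_of_singular a b w hab _ hsing
    rw [hs] at hle
    obtain ⟨n, rfl⟩ := Nat.exists_eq_add_of_le hle
    have heven : Even s := by
      have h4 := Cfsg.Agent.H177.InvolCount.even_of_alt (minusForm (s + n) F a b) hQ x hx
        (fun v hv => hsing v (by rw [range_nMap]; exact hv))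
      rwa [← range_nMap, hs] at h4
    obtain ⟨t, ht⟩ := heven
    have h4 : Nat.card {φ : LinearMap.range (nMap x) ≃ₗ[F] LinearMap.range (nMap x) //
          ∀ x y, γ (φ x) (φ y) = γ x y} = cSp (Fintype.card F) t := card_iso_alt γ hA hγ (by rw [hs]; omega)
    have h5 := card_fixing_singular a b hab s (s + n) n rfl _ hsing hs
    have h6 := Cfsg.Agent.S0288.result (F := F) rfl (n + 1) (by omega) a b hab
    rw [Nat.add_sub_cancel] at h6
    rw [h4, h5, h6] at h3
    -- a non-singular vector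
    obtain ⟨v, hv, hvx⟩ : ∃ v, minusForm (s + n) F a b v ≠ 0 ∧
        ∀ y ∈ LinearMap.range (nMap x), polar (minusForm (s + n) F a b) v y = 0 := by
      have h7 := OMCount.card_ext_singular a b hab s (s + n) n rfl _ hsing hs (1 : F)
      rw [OMCount.card_value a b hab n 1 one_ne_zero] at h7
      have h8 : 0 < Nat.card F ^ s * (Nat.card F ^ n * (Nat.card F ^ (n + 1) + 1)) := by
        rw [hF']; positivity
      rw [← h7, Nat.card_pos_iff] at h8
      obtain ⟨⟨v, hv1, hv2, hv3⟩⟩ := h8.1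
      exact ⟨v, by rw [hv2]; exact one_ne_zero, fun y hy => by rw [polar_comm]; exact hv3 y hy⟩
    have h9 := card_omega_half (minusForm (s + n) F a b) hQ hgood x hx v hv hvx
    rw [hc, h3, hF', hF, cSp] at h9
    have h10 := two_part (k := f) (E := s * (s - 1) / 2 + 2 * s * (n + 1) + (s / 2) ^ 2 + (n + 1) * (n + 1 - 1))
      (m := (∏ i ∈ Finset.range t, ((2 ^ f) ^ (2 * (i + 1)) - 1)) * (((2 ^ f) ^ (n + 1) + 1) *
        ∏ i ∈ Finset.range n, ((2 ^ f) ^ (2 * (i + 1)) - 1)))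
      ((odd_prod _ _ fun i _ => odd_sub hqe hq0 (by omega)).mul (((hqe.pow_of_ne_zero (by omega)).add_one).mul
        (odd_prod _ _ fun i _ => odd_sub hqe hq0 (by omega)))) (by
          apply Nat.eq_of_mul_eq_mul_left (Nat.succ_pos 1)
          have ht' : s / 2 = t := by omega
          rw [h9, ht', Nat.add_sub_cancel, pow_add, pow_add, pow_add]
          ring)
    exact numA ⟨t, ht⟩ hs0 h10.1
  · push Not at hsing
    obtain ⟨u, hu, hu0⟩ := hsing
    obtain ⟨k, rfl⟩ : ∃ k, s = k + 1 := ⟨s - 1, by omega⟩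
    obtain ⟨n, rfl⟩ : ∃ n, w = k + n := ⟨w - k, by omega⟩
    have h4 : Nat.card {φ : LinearMap.range (nMap x) ≃ₗ[F] LinearMap.range (nMap x) //
          ∀ x y, γ (φ x) (φ y) = γ x y} = cON (Fintype.card F) (k + 1) :=
      card_iso_nonalt γ hS hγ ⟨⟨u, hu⟩, by rw [h2]; exact hu0⟩ hs
    obtain ⟨M₀, g1, g2, g3, g4, g5⟩ := exists_singular_part (minusForm (k + n) F a b) _ hpol u hu hu0
    have h5 := OMCount.card_fixing_singular a b hab k (k + n) n rfl M₀ g1 (by omega)
    rw [card_fixing_step (minusForm (k + n) F a b) hQ M₀ u g4, g2] at h5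
    have h7 : Nat.card {w : (Fin (k + n) ⊕ Fin (k + n)) ⊕ Fin 2 → F // w ∉ M₀ ∧
        minusForm (k + n) F a b w = minusForm (k + n) F a b u ∧
        ∀ x ∈ M₀, polar (minusForm (k + n) F a b) x w = polar (minusForm (k + n) F a b) x u}
        = Nat.card F ^ k * (Nat.card F ^ n * (Nat.card F ^ (n + 1) + 1)) := by
      have h8 := OMCount.card_ext_singular a b hab k (k + n) n rfl M₀ g1 (by omega) (minusForm (k + n) F a b u)
      rw [OMCount.card_value a b hab n _ hu0] at h8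
      rw [← h8]
      apply Nat.card_congr
      refine Equiv.subtypeEquivRight fun w => and_congr_right fun _ => and_congr_right fun _ => ?_
      exact ⟨fun h x hx => (h x hx).trans (g5 x hx), fun h x hx => (h x hx).trans (g5 x hx).symm⟩
    have h6 := Cfsg.Agent.S0288.result (F := F) rfl (n + 1) (by omega) a b hab
    rw [Nat.add_sub_cancel] at h6
    rw [h7, h6, hF', hF] at h5
    obtain ⟨m0, hm0, hm1⟩ := cON_eq hqe hq0 k
    have h9 := card_omega_half (minusForm (k + n) F a b) hQ hgood x hx u hu0 (fun y hy => hpol u hu y hy)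
    rw [h3, h4, hc, hF, hm1] at h9
    set N := Nat.card (fixing (⇑(minusForm (k + n) F a b)) (LinearMap.range (nMap x))) with hN
    -- cancel
    have h10 : N = 2 * ((2 ^ f) ^ (k * (k - 1) / 2 + 2 * k * n + k + n ^ 2) *
        ∏ i ∈ Finset.range n, ((2 ^ f) ^ (2 * (i + 1)) - 1)) := by
      have h11 : 0 < (2 ^ f) ^ (k + n) * ((2 ^ f) ^ (n + 1) + 1) := by positivity
      apply Nat.eq_of_mul_eq_mul_left h11
      have h12 : (2 ^ f) ^ (k + n) * ((2 ^ f) ^ (n + 1) + 1) * N =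
          (2 ^ f) ^ k * ((2 ^ f) ^ n * ((2 ^ f) ^ (n + 1) + 1)) * N := by rw [pow_add]; ring
      rw [h12, h5]
      have h13 : k * (k - 1) / 2 + 2 * k * (n + 1) + (n + 1) * n = (k + n) + (k * (k - 1) / 2 + 2 * k * n + k + n ^ 2) := by
        ring
      have h14 : (2 ^ f) ^ (k * (k - 1) / 2 + 2 * k * (n + 1)) * (2 ^ f) ^ ((n + 1) * n) =
          (2 ^ f) ^ (k + n) * (2 ^ f) ^ (k * (k - 1) / 2 + 2 * k * n + k + n ^ 2) := by
        rw [← pow_add, ← pow_add, h13]
      calc _ = 2 * ((2 ^ f) ^ (k * (k - 1) / 2 + 2 * k * (n + 1)) * (2 ^ f) ^ ((n + 1) * n)) *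
            ((2 ^ f) ^ (n + 1) + 1) * ∏ i ∈ Finset.range n, ((2 ^ f) ^ (2 * (i + 1)) - 1) := by ring
        _ = _ := by rw [h14]; ring
    rw [h10] at h9
    have h15 := two_part (k := f) (E := eON k + (k * (k - 1) / 2 + 2 * k * n + k + n ^ 2))
      (m := m0 * ∏ i ∈ Finset.range n, ((2 ^ f) ^ (2 * (i + 1)) - 1))
      (hm0.mul (odd_prod _ _ fun i _ => odd_sub hqe hq0 (by omega))) (by
          apply Nat.eq_of_mul_eq_mul_left (Nat.succ_pos 1)
          rw [h9, pow_add]
          ring)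
    exact numB (by omega) h15.1

theorem nc_omega (hab : ∀ z₁ z₂ : F, z₁ ^ 2 + a * z₁ * z₂ + b * z₂ ^ 2 = 0 → z₁ = 0 ∧ z₂ = 0) {w : ℕ} (hw : 3 ≤ w) :
    NC ↥(Cfsg.Omega F (Cfsg.quadFormMinus w F a b)) := by
  have h := main hab hw
  rw [coe_minusForm] at h
  intro f hf hf2 hc
  exact h f (fun h => hf (Subtype.ext h)) (congrArg Subtype.val hf2) (by rw [← hc, OPlus.card_sub])

theorem nc_pomega (hab : ∀ z₁ z₂ : F, z₁ ^ 2 + a * z₁ * z₂ + b * z₂ ^ 2 = 0 → z₁ = 0 ∧ z₂ = 0) {m : ℕ} (hm : 4 ≤ m) :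
    NC (Cfsg.POmega F (Cfsg.quadFormMinus (m - 1) F a b)) :=
  OCen.nc_quot (OCen.center_minus hm hab) (nc_omega hab (by omega))

theorem nc_pomega_plus {m : ℕ} (hm : 4 ≤ m) : NC (Cfsg.POmega F (Cfsg.quadFormPlus m F)) :=
  OCen.nc_quot (OCen.center_plus hm) (OPlus.nc_omega hm)

end Cfsg.Agent.R2.H3.OMinus
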