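import Cfsg.Agent.R2.H3.Base
import Cfsg.Agent.R2.H3.Alt
import Cfsg.Agent.H729.PairMathieu
import Cfsg.Agent.H816.CPFin
import Cfsg.Agent.BM.KHAll

/-!
# S3319: the Baby Monster (helper3, second round)

* `fixes` : in a group `C` with a normal subgroup `N` of order `2 ^ 11`, `C / N ≅ Aut(M22)`, an element of
  order 11 commuting with two different involutions centralises `N`;
* `false_b` : the hypotheses of S3319 fail in the Baby Monster.
-/

set_option autoImplicit false

namespace Cfsg.Agent.R2.H3.SpB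

open Subgroup Cfsg

/-- no involution commutes with an element of order 11 in `Aut(M22)` -/
theorem aut_eleven {a b : MulAut ↥Cfsg.Spor.M22} (ha : orderOf a = 11) (hab : b * a = a * b) (hb : b * b = 1) : b = 1 := by
  have hM : ∀ c : MulAut ↥Cfsg.Spor.M22, KFacts.MM.OutAut.emb c ∈ M24 := by
    intro c
    have h1 : KFacts.MM.OutAut.emb c ∈ Cfsg.Agent.J4Type.Aut22.D22 := by
      rw [← KFacts.MM.OutAut.emb_range]
      exact ⟨c, rfl⟩
    exact ((Cfsg.Agent.J4Type.Aut22.mem_D22_iff _).1 h1).1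
  let φ : MulAut ↥Cfsg.Spor.M22 →* ↥M24 := KFacts.MM.OutAut.emb.codRestrict M24 hM
  have hφ : Function.Injective φ := by
    intro x y h
    exact KFacts.MM.OutAut.emb_inj (congrArg Subtype.val h)
  have h1 := H729.PairMathieu.card_cent_eleven (x := φ a) (by rw [orderOf_injective φ hφ, ha])
  have h2 : φ b ∈ centralizer ({φ a} : Set ↥M24) := by
    rw [mem_centralizer_singleton_iff, ← map_mul, hab, map_mul]
  have h3 : orderOf (φ b) ∣ 11 := by
    rw [← h1]
    exact Subgroup.orderOf_dvd_natCard _ h2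
  have h4 : orderOf (φ b) ∣ 2 := by
    apply orderOf_dvd_of_pow_eq_one
    rw [pow_two, ← map_mul, hb, map_one]
  have h5 : orderOf (φ b) = 1 := Nat.eq_one_of_dvd_coprimes (by norm_num : Nat.Coprime 11 2) h3 h4
  rw [orderOf_eq_one_iff] at h5
  exact hφ (h5.trans (map_one φ).symm)

section fixes

variable {C : Type*} [Group C] [Finite C] (N : Subgroup C) [N.Normal]

theorem fixes (hN : Nat.card ↥N = 2 ^ 11) (e : C ⧸ N ≃* MulAut ↥Cfsg.Spor.M22) {x f h : C} (hx : orderOf x = 11)
    (hf : f * x = x * f) (hh : h * x = x * h) (hff : f * f = 1) (hhh : h * h = 1) (hf1 : f ≠ 1) (hh1 : h ≠ 1)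
    (hfh : f ≠ h) : ∀ n ∈ N, n * x = x * n := by
  have hp : Fact (Nat.Prime 11) := ⟨by norm_num⟩
  -- the image of `x`
  have hxN : orderOf (e (QuotientGroup.mk' N x)) = 11 := by
    rw [MulEquiv.orderOf_eq]
    have h1 : (QuotientGroup.mk' N x) ^ 11 = 1 := by rw [← map_pow, ← hx, pow_orderOf_eq_one, map_one]
    refine orderOf_eq_prime h1 ?_
    intro h2
    have h3 : x ∈ N := (QuotientGroup.eq_one_iff x).1 h2
    have h4 := Subgroup.orderOf_dvd_natCard N h3
    rw [hx, hN] at h4
    revert h4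
    decide
  have key : ∀ g : C, g * x = x * g → g * g = 1 → g ∈ N := by
    intro g hg hgg
    have h1 : e (QuotientGroup.mk' N g) = 1 := by
      refine aut_eleven hxN ?_ ?_
      · rw [← map_mul, ← map_mul, hg, map_mul, map_mul]
      · rw [← map_mul, ← map_mul, hgg, map_one, map_one]
    rw [MulEquiv.map_eq_one_iff] at h1
    exact (QuotientGroup.eq_one_iff g).1 h1
  have hfN := key f hf hff
  have hhN := key h hh hhh
  -- the fixed points of `x` on `N`
  let φ : ↥(zpowers x) →* MulAut ↥N := (MulAut.conjNormal : C →* MulAut ↥N).comp (zpowers x).subtype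
  letI : MulAction ↥(zpowers x) ↥N := MulAction.compHom ↥N φ
  have hP : IsPGroup 11 ↥(zpowers x) := by
    refine IsPGroup.of_card (n := 1) ?_
    rw [Nat.card_zpowers, hx, pow_one]
  have hmod := hP.card_modEq_card_fixedPoints ↥N
  let A : Subgroup ↥N := (centralizer ({x} : Set C)).subgroupOf N
  have hfix : MulAction.fixedPoints ↥(zpowers x) ↥N = (A : Set ↥N) := by
    ext n
    rw [MulAction.mem_fixedPoints]
    constructor
    · intro hn
      have h1 := hn ⟨x, mem_zpowers x⟩
      have h2 : x * (n : C) * x⁻¹ = n := congrArg Subtype.val h1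
      show (n : C) ∈ centralizer ({x} : Set C)
      rw [mem_centralizer_singleton_iff]
      rw [mul_inv_eq_iff_eq_mul] at h2
      exact h2.symm
    · rintro hn ⟨y, hy⟩
      have hn' : (n : C) ∈ centralizer ({x} : Set C) := hn
      rw [mem_centralizer_singleton_iff] at hn'
      obtain ⟨k, rfl⟩ := mem_zpowers_iff.1 hy
      apply Subtype.ext
      show x ^ k * (n : C) * (x ^ k)⁻¹ = n
      have h3 : Commute (n : C) x := hn'
      rw [(h3.zpow_right k).eq.symm, mul_inv_cancel_right]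
  have hAcard : Nat.card ↥(MulAction.fixedPoints ↥(zpowers x) ↥N) = Nat.card ↥A := by
    rw [hfix]; rfl
  rw [hAcard, hN] at hmod
  -- at least three elements
  have h3 : 2 < Nat.card ↥A := by
    have hinj : Function.Injective (fun i : Fin 3 => (![(⟨1, A.one_mem⟩ : ↥A), ⟨⟨f, hfN⟩, mem_centralizer_singleton_iff.2 hf⟩,
        ⟨⟨h, hhN⟩, mem_centralizer_singleton_iff.2 hh⟩] i)) := by
      have e1 : (1 : ↥N) ≠ ⟨f, hfN⟩ := fun h => hf1 (congrArg Subtype.val h).symm
      have e2 : (1 : ↥N) ≠ ⟨h, hhN⟩ := fun h => hh1 (congrArg Subtype.val h).symm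
      have e3 : (⟨f, hfN⟩ : ↥N) ≠ ⟨h, hhN⟩ := fun h => hfh (congrArg Subtype.val h)
      intro i j hij
      fin_cases i <;> fin_cases j <;> first
        | rfl
        | exact absurd (congrArg Subtype.val hij) e1
        | exact absurd (congrArg Subtype.val hij) e2
        | exact absurd (congrArg Subtype.val hij) e3
        | exact absurd (congrArg Subtype.val hij).symm e1
        | exact absurd (congrArg Subtype.val hij).symm e2
        | exact absurd (congrArg Subtype.val hij).symm e3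
    have h4 := Nat.card_le_card_of_injective _ hinj
    rw [Nat.card_eq_fintype_card, Fintype.card_fin] at h4
    omega
  obtain ⟨j, hj, hAj⟩ := (Nat.dvd_prime_pow Nat.prime_two).1 (hN ▸ Subgroup.card_subgroup_dvd_card A)
  have hj11 : j = 11 := by
    rw [hAj] at hmod h3
    unfold Nat.ModEq at hmod
    interval_cases j <;> revert hmod h3 <;> decide
  have hAtop : A = ⊤ := by
    apply Subgroup.eq_top_of_card_eq
    rw [hAj, hj11, hN]
  intro n hn
  have h5 : (⟨n, hn⟩ : ↥N) ∈ A := by rw [hAtop]; trivial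
  exact mem_centralizer_singleton_iff.1 (mem_subgroupOf.1 h5)

end fixes

theorem s5 : ∀ σ : Equiv.Perm (Fin 5), σ ≠ 1 → σ * σ = 1 →
    ∃ τ : Equiv.Perm (Fin 5), τ ≠ 1 ∧ τ ≠ σ ∧ τ * τ = 1 ∧ τ * σ = σ * τ := by
  decide +kernel

/-- **The abstract form.** -/
theorem false_of {X : Type*} [Group X] [Finite X] {p : X} (hp : orderOf p = 11) (h121 : ¬ 121 ∣ Nat.card X)
    {K : Subgroup X} (eK : ↥K ≃* Equiv.Perm (Fin 5)) (hK : ∀ k ∈ K, k * p = p * k)
    (hC : ∀ g : X, g * p = p * g → ∃ k ∈ K, ∃ n : ℕ, g = p ^ n * k) {f : X} (hf : f ≠ 1) (hff : f * f = 1)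
    (hcard : Nat.card ↥(Cfsg.twoCoreOfCentralizer f) = 2 ^ 11)
    (hq : Nonempty (↥(centralizer ({f} : Set X)) ⧸ Cfsg.pCore 2 ↥(centralizer ({f} : Set X)) ≃*
      MulAut ↥Cfsg.Spor.M22)) : False := by
  have hp11 : Fact (Nat.Prime 11) := ⟨by norm_num⟩
  have hcf := Base.card_cent hcard hq
  -- the centralizer of `p`
  have hcp : Nat.card ↥(centralizer ({p} : Set X)) ≤ 1320 := by
    have h1 : Nat.card (↥(zpowers p) × ↥K) = 1320 := by
      rw [Nat.card_prod, Nat.card_zpowers, hp, Nat.card_congr eK.toEquiv, Nat.card_eq_fintype_card, Fintype.card_perm,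
        Fintype.card_fin]
      rfl
    rw [← h1]
    refine Nat.card_le_card_of_surjective (fun q : ↥(zpowers p) × ↥K =>
      (⟨(q.1 : X) * (q.2 : X), ?_⟩ : ↥(centralizer ({p} : Set X)))) ?_
    · rw [mem_centralizer_singleton_iff]
      obtain ⟨n, hn⟩ := mem_zpowers_iff.1 q.1.2
      have h2 : Commute (q.1 : X) p := by rw [← hn]; exact (Commute.refl p).zpow_left n
      have h3 : Commute (q.2 : X) p := hK _ q.2.2
      exact (h2.mul_left h3).eq
    · rintro ⟨g, hg⟩
      obtain ⟨k, hk, n, rfl⟩ := hC g (mem_centralizer_singleton_iff.1 hg)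
      exact ⟨(⟨p ^ n, ⟨n, by simp⟩⟩, ⟨k, hk⟩), rfl⟩
  -- an element of order 11 commuting with `f`
  obtain ⟨x, hx⟩ := exists_prime_orderOf_dvd_card' (G := ↥(centralizer ({f} : Set X))) 11 (by
    rw [hcf]; norm_num)
  have hxo : orderOf (x : X) = 11 := by rw [Subgroup.orderOf_coe, hx]
  have hxf : (x : X) * f = f * x := mem_centralizer_singleton_iff.1 x.2
  -- conjugate
  obtain ⟨P, hP⟩ : ∃ P : Sylow 11 X, (P : Subgroup X) = zpowers p := by
    have hz : IsPGroup 11 ↥(zpowers p) := by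
      refine IsPGroup.of_card (n := 1) ?_
      rw [Nat.card_zpowers, hp, pow_one]
    refine ⟨hz.toSylow ?_, rfl⟩
    intro hd
    apply h121
    have h1 := (zpowers p).card_mul_index
    rw [Nat.card_zpowers, hp] at h1
    obtain ⟨c, hc⟩ := hd
    exact ⟨c, by rw [← h1, hc]; ring⟩
  have hz : IsPGroup 11 ↥(zpowers (x : X)) := by
    refine IsPGroup.of_card (n := 1) ?_
    rw [Nat.card_zpowers, hxo, pow_one]
  obtain ⟨Q, hQ⟩ := hz.exists_le_sylow
  obtain ⟨g, hg⟩ := MulAction.exists_smul_eq X Q P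
  have hgx : g * (x : X) * g⁻¹ ∈ zpowers p := by
    rw [← hP, ← hg]
    exact Subgroup.smul_mem_pointwise_smul (x : X) (MulAut.conj g) _ (hQ (mem_zpowers _))
  -- `p` is a power of the conjugate of `x`
  have hpz : p ∈ zpowers (g * (x : X) * g⁻¹) := by
    have h1 : zpowers (g * (x : X) * g⁻¹) = zpowers p := by
      refine Subgroup.eq_of_le_of_card_ge (zpowers_le.2 hgx) ?_
      rw [Nat.card_zpowers, Nat.card_zpowers, hp]
      have h2 : orderOf (g * (x : X) * g⁻¹) = 11 := by
        have := MulEquiv.orderOf_eq (MulAut.conj g) (x : X)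
        rw [MulAut.conj_apply] at this
        rw [this, hxo]
      rw [h2]
    rw [h1]
    exact mem_zpowers p
  obtain ⟨m, hm⟩ := mem_zpowers_iff.1 hpz
  obtain ⟨m', hm'⟩ := mem_zpowers_iff.1 hgx
  -- the conjugate of `f`
  set f' : X := g * f * g⁻¹ with hf'
  have hff' : f' * f' = 1 := by rw [hf']; calc g * f * g⁻¹ * (g * f * g⁻¹) = g * (f * f) * g⁻¹ := by group
                                    _ = 1 := by rw [hff]; group
  have hf'1 : f' ≠ 1 := by
    intro h
    apply hf
    have : f = g⁻¹ * f' * g := by rw [hf']; group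
    rw [this, h]; group
  have hxf' : Commute (g * (x : X) * g⁻¹) f' := by
    show g * (x : X) * g⁻¹ * (g * f * g⁻¹) = g * f * g⁻¹ * (g * (x : X) * g⁻¹)
    calc g * (x : X) * g⁻¹ * (g * f * g⁻¹) = g * ((x : X) * f) * g⁻¹ := by group
      _ = g * (f * x) * g⁻¹ := by rw [hxf]
      _ = _ := by group
  have hpf' : f' * p = p * f' := by
    rw [← hm]
    exact (hxf'.zpow_left m).eq.symm
  have hf'K : f' ∈ K := by
    obtain ⟨k, hk, n, hn⟩ := hC f' hpf'
    have hcomm : Commute (p ^ n) k := ((show Commute k p from hK k hk).pow_right n).symm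
    have h1 : f' ^ 11 = k ^ 11 := by
      rw [hn, hcomm.mul_pow, ← pow_mul, mul_comm n 11, pow_mul, ← hp, pow_orderOf_eq_one, one_pow, one_mul]
    have h2 : f' ^ 11 = f' := by
      rw [show (11 : ℕ) = 2 * 5 + 1 by norm_num, pow_succ, pow_mul, pow_two, hff', one_pow, one_mul]
    rw [h2] at h1
    rw [h1]
    exact K.pow_mem hk 11
  -- a second involution
  obtain ⟨τ, hτ1, hτσ, hττ, hτc⟩ := s5 (eK ⟨f', hf'K⟩) (by
    intro h
    rw [MulEquiv.map_eq_one_iff] at h
    exact hf'1 (congrArg Subtype.val h)) (by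
    rw [← map_mul]
    have : (⟨f', hf'K⟩ : ↥K) * ⟨f', hf'K⟩ = 1 := Subtype.ext hff'
    rw [this, map_one])
  obtain ⟨h', hh'⟩ := eK.surjective τ
  have a1 : (h' : X) ≠ 1 := by
    intro h
    apply hτ1
    rw [← hh', (Subtype.ext h : h' = 1), map_one]
  have a2 : (h' : X) ≠ f' := by
    intro h
    apply hτσ
    rw [← hh']
    congr 1
    exact Subtype.ext h
  have a3 : (h' : X) * h' = 1 := by
    have : h' * h' = 1 := by
      apply eK.injective
      rw [map_mul, hh', hττ, map_one]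
    exact congrArg Subtype.val this
  have a4 : (h' : X) * f' = f' * h' := by
    have : h' * ⟨f', hf'K⟩ = ⟨f', hf'K⟩ * h' := by
      apply eK.injective
      rw [map_mul, map_mul, hh', hτc]
    exact congrArg Subtype.val this
  have a5 : Commute (h' : X) (g * (x : X) * g⁻¹) := by
    rw [← hm']
    exact (show Commute (h' : X) p from hK _ h'.2).zpow_right m'
  -- back
  set h : X := g⁻¹ * h' * g with hh
  have b0 : g * h * g⁻¹ = h' := by rw [hh]; group
  have b1 : h ≠ 1 := by
    intro h1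
    apply a1
    rw [← b0, h1]; group
  have b2 : f ≠ h := by
    intro h1
    apply a2
    rw [← b0, ← h1]
  have inj : ∀ u v : X, g * u * g⁻¹ = g * v * g⁻¹ → u = v := fun u v huv =>
    mul_left_cancel (mul_right_cancel huv)
  have b3 : h * h = 1 := by
    apply inj
    calc g * (h * h) * g⁻¹ = (g * h * g⁻¹) * (g * h * g⁻¹) := by group
      _ = g * 1 * g⁻¹ := by rw [b0, a3]; group
  have b4 : h * f = f * h := by
    apply inj
    calc g * (h * f) * g⁻¹ = (g * h * g⁻¹) * (g * f * g⁻¹) := by group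
      _ = (g * f * g⁻¹) * (g * h * g⁻¹) := by rw [b0]; exact a4
      _ = _ := by group
  have b5 : h * x = x * h := by
    apply inj
    calc g * (h * x) * g⁻¹ = (g * h * g⁻¹) * (g * x * g⁻¹) := by group
      _ = (g * x * g⁻¹) * (g * h * g⁻¹) := by rw [b0]; exact a5.eq
      _ = _ := by group
  -- in the centralizer
  obtain ⟨e⟩ := hq
  have hfx := fixes (C := ↥(centralizer ({f} : Set X))) (Cfsg.pCore 2 ↥(centralizer ({f} : Set X))) (Base.card_pCore hcard) e
    (x := x) (f := ⟨f, mem_centralizer_singleton_iff.2 rfl⟩) (h := ⟨h, mem_centralizer_singleton_iff.2 b4⟩) hx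
    (Subtype.ext hxf.symm) (Subtype.ext b5) (Subtype.ext hff) (Subtype.ext b3)
    (fun h1 => hf (congrArg Subtype.val h1)) (fun h1 => b1 (congrArg Subtype.val h1))
    (fun h1 => b2 (congrArg Subtype.val h1))
  have hle : Cfsg.twoCoreOfCentralizer f ≤ centralizer ({(x : X)} : Set X) := by
    rintro _ ⟨n, hn, rfl⟩
    rw [mem_centralizer_singleton_iff]
    exact congrArg Subtype.val (hfx n hn)
  have hcx : Nat.card ↥(centralizer ({(x : X)} : Set X)) ≤ 1320 := by
    have h1 : Nat.card ↥(centralizer ({g * (x : X) * g⁻¹} : Set X)) = Nat.card ↥(centralizer ({(x : X)} : Set X)) :=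
      card_cent_congr (MulAut.conj g) (x : X)
    rw [← h1]
    refine (Subgroup.card_le_of_le ?_).trans hcp
    intro y hy
    rw [mem_centralizer_singleton_iff] at hy ⊢
    have h2 : Commute y (g * (x : X) * g⁻¹) := hy
    rw [← hm]
    exact (h2.zpow_right m).eq
  have h6 := Subgroup.card_le_of_le hle
  rw [hcard] at h6
  have : (2 : ℕ) ^ 11 ≤ 1320 := h6.trans hcx
  norm_num at this

/-- **The Baby Monster.** -/
theorem false_b {X : Type*} [Group X] (hX : Cfsg.Spor.IsoB X) {f : X} (hf : f ≠ 1) (hff : f * f = 1)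
    (hcard : Nat.card ↥(Cfsg.twoCoreOfCentralizer f) = 2 ^ 11)
    (hq : Nonempty (↥(centralizer ({f} : Set X)) ⧸ Cfsg.pCore 2 ↥(centralizer ({f} : Set X)) ≃*
      MulAut ↥Cfsg.Spor.M22)) : False := by
  obtain ⟨e0⟩ := hX
  have hcX : Nat.card X = 4154781481226426191177580544000000 := by
    rw [Nat.card_congr e0.toEquiv, BM.KHAll.card_B]
  have hfin : Finite X := Nat.finite_of_card_ne_zero (by rw [hcX]; norm_num)
  let e : Cfsg.Agent.BabyM.Inst.M.G ≃* X := (e0.trans BM.KHAll.iso).symm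
  obtain ⟨K, ⟨eK⟩, hK, hC⟩ := H816.CPFin.cent_p
  have hp := H816.CPMain.order_p
  refine false_of (p := e (Cfsg.Agent.BM.StageW.Wg [.p])) (K := K.map e.toMonoidHom) ?_ ?_ ?_ ?_ ?_ hf hff hcard hq
  · rw [MulEquiv.orderOf_eq]
    exact hp
  · rw [hcX]; norm_num
  · exact ((K.equivMapOfInjective e.toMonoidHom e.injective).symm).trans eK
  · rintro _ ⟨k, hk, rfl⟩
    show e k * e _ = e _ * e k
    rw [← map_mul, ← map_mul, hK k hk]
  · intro g hg
    obtain ⟨g', rfl⟩ := e.surjective g
    rw [← map_mul, ← map_mul] at hg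
    obtain ⟨k, hk, n, hn⟩ := hC g' (e.injective hg)
    exact ⟨e k, ⟨k, hk, rfl⟩, n, by rw [hn, map_mul, map_pow]⟩

end Cfsg.Agent.R2.H3.SpB
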