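import Cfsg.Agent.R2.H3.CentU
import Cfsg.Agent.S2184
import Cfsg.Agent.OrdDiv.Table

/-!
# S3319: the groups `²F₄(q)` and the Suzuki groups (helper3, second round)
-/

set_option autoImplicit false

namespace Cfsg.Agent.R2.H3.TwF4

open Cfsg Cfsg.Lie
open Cfsg.Agent.SplitTwo Cfsg.Agent.SplitTwo.ZS Cfsg.Agent.TitsThree.RankTwoZ
open Cfsg.Agent.KFacts.TwF4 Cfsg.Agent.KFacts.TwF4.Arc Cfsg.Agent.KFacts.TwF4.Inv Cfsg.Agent.H84.TwF4Two
open Cfsg.Agent.KFacts.TwF4.Inst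

universe u

theorem centralizer_card_cj {G : Type*} [Group G] {a b : G} (h : Cj a b) :
    Nat.card ↥(Subgroup.centralizer ({a} : Set G)) = Nat.card ↥(Subgroup.centralizer ({b} : Set G)) := by
  obtain ⟨k, rfl⟩ := h
  exact (card_cent_congr (MulAut.conj k) a).symm

theorem nc_full {F : Type*} [Field F] [Finite F] {σ : F →+* F} {G : Type u} [Group G] [Finite G] (S : Full σ G)
    (hR : S.R.p = 2) (hF : 2 ^ 10 ≤ Nat.card F)
    (hall : ∀ t : G, t * t = 1 → t ≠ 1 → Cj t (S.e 0 0 1) ∨ Cj t (S.o 0 1)) : NC G := by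
  have hP : IsPGroup 2 ↥(S.R.X (ev 0)) := by
    have := S.R.isPGroup (ev 0)
    rwa [hR] at this
  have hcard : 2 ^ 20 ≤ Nat.card ↥(S.R.X (ev 0)) := by
    have h1 : 2 ^ 20 ≤ Nat.card (F × F) := by
      rw [Nat.card_prod]
      calc 2 ^ 20 = 2 ^ 10 * 2 ^ 10 := by norm_num
        _ ≤ _ := Nat.mul_le_mul hF hF
    refine h1.trans (Nat.card_le_card_of_injective
      (fun x : F × F => (⟨S.e 0 x.1 x.2, (S.mem_even 0 _).2 ⟨x.1, x.2, rfl⟩⟩ : ↥(S.R.X (ev 0)))) ?_)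
    intro x y hxy
    obtain ⟨h2, h3⟩ := S.injE 0 _ _ _ _ (congrArg Subtype.val hxy)
    exact Prod.ext h2 h3
  intro f hf hf2
  rcases hall f hf2 hf with h | h
  · rw [centralizer_card_cj h]
    refine CentU.ne_of_pGroup _ _ hP ?_ hcard
    intro z hz
    obtain ⟨p, u, rfl⟩ := (S.mem_even 0 z).1 hz
    rw [Subgroup.mem_centralizer_singleton_iff, S.e_mul, S.e_mul, map_zero, mul_zero, zero_mul, add_zero, add_zero,
      zero_add, add_zero, add_comm]
  · rw [centralizer_card_cj h]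
    refine CentU.ne_of_pGroup _ _ hP ?_ hcard
    intro z hz
    obtain ⟨p, u, rfl⟩ := (S.mem_even 0 z).1 hz
    rw [Subgroup.mem_centralizer_singleton_iff]
    exact S.e_o0 0 p u 1

theorem nc_tf4 {K : Type} [Field K] [Fintype K] (m : ℕ) (hm : 1 ≤ m) (hK : Fintype.card K = 2 ^ (2 * m + 1)) :
    NC ↥(twistedF4 K (2 ^ m)) := by
  by_cases h5 : 5 ≤ m
  · have hchar := Cfsg.Agent.ChevalleyStructure.TwF4.Twisted.charP_two hK
    obtain ⟨φ, hφ⟩ := Cfsg.Agent.ChevalleyStructure.TwF4.TwistedFix.exists_rln hK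
    have hfin : Finite (GL chevF4.Idx K) := inferInstance
    refine nc_full (full hK hφ) rfl ?_ ?_
    · rw [Nat.card_eq_fintype_card, hK]
      exact Nat.pow_le_pow_right (by norm_num) (by omega)
    · intro t ht ht1
      have hF : ∃ c : Kˣ, c ≠ 1 := by
        classical
        have h1 : 1 < Fintype.card Kˣ := by
          rw [Fintype.card_units, hK]
          have : 2 ^ 3 ≤ 2 ^ (2 * m + 1) := Nat.pow_le_pow_right (by norm_num) (by omega)
          omega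
        exact Fintype.exists_ne_of_one_lt_card h1 1
      rcases SylU.classes (full hK hφ) hF rfl ht ht1 with ⟨u, hu, h⟩ | ⟨u, hu, h⟩
      · exact Or.inl (h.trans (S2184.torus_e _ hu))
      · exact Or.inr (h.trans (S2184.torus_o _ hu))
  · refine NC.of_card ?_
    rw [(Cfsg.Agent.OrdDiv.table.{0}).tf4 K m hm hK]
    clear hK
    interval_cases m <;> decide +kernel

/-- `3` does not divide the order of a Suzuki group -/
theorem nc_sz {K : Type} [Field K] [Fintype K] (m : ℕ) (hm : 1 ≤ m) (hK : Fintype.card K = 2 ^ (2 * m + 1)) :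
    NC ↥(Lie.Sz K (2 ^ (m + 1))) := by
  refine NC.of_card fun h => ?_
  rw [(Cfsg.Agent.OrdDiv.table.{0}).sz K m hm hK] at h
  have h3 : 3 ∣ (2 ^ (2 * m + 1)) ^ 2 * (2 ^ (2 * m + 1) - 1) * ((2 ^ (2 * m + 1)) ^ 2 + 1) :=
    dvd_trans (by norm_num) h
  have h4 : 2 ^ (2 * m + 1) % 3 = 2 := by
    rw [pow_succ, pow_mul, Nat.mul_mod, Nat.pow_mod]
    norm_num
  have h5 : 1 ≤ 2 ^ (2 * m + 1) := Nat.one_le_two_pow
  set q := 2 ^ (2 * m + 1) with hq
  obtain ⟨c, hc⟩ : ∃ c, q = 3 * c + 2 := ⟨q / 3, by omega⟩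
  rw [hc, Nat.dvd_iff_mod_eq_zero] at h3
  have e1 : 3 * c + 2 - 1 = 3 * c + 1 := by omega
  rw [e1] at h3
  have e2 : (3 * c + 2) ^ 2 * (3 * c + 1) * ((3 * c + 2) ^ 2 + 1) % 3 = 2 := by
    have a1 : (3 * c + 2) % 3 = 2 := by omega
    have a2 : (3 * c + 1) % 3 = 1 := by omega
    rw [Nat.mul_mod, Nat.mul_mod ((3 * c + 2) ^ 2), Nat.add_mod ((3 * c + 2) ^ 2), Nat.pow_mod, a1, a2]
  omega

end Cfsg.Agent.R2.H3.TwF4
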