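import Cfsg.Agent.R2.H3.Odd
import Cfsg.Agent.R2.H3.Lin
import Cfsg.Agent.R2.H3.Sp
import Cfsg.Agent.R2.H3.Uni
import Cfsg.Agent.R2.H3.OMinus
import Cfsg.Agent.R2.H3.Exc
import Cfsg.Agent.R2.H3.TwExc
import Cfsg.Agent.R2.H3.TwF4
import Cfsg.Agent.R2.H3.Spor
import Cfsg.Agent.R2.H3.SpB
import Cfsg.Agent.H337.JankoOfIso
import Cfsg.Agent.OddHalf.Known

/-!
# S3319: the elimination (helper3, second round)

`main` : a known simple group with an involution as in S3319 is `J4`.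
-/

set_option autoImplicit false

namespace Cfsg.Agent.R2.H3.Main

open Subgroup Cfsg

universe u

variable {G : Type u} [Group G]

/-- Lie type in characteristic two -/
theorem nc_even (h : IsLieTypeChar 2 G) : NC G := by
  rcases h with ⟨F, _, _, _, n, -, -, ⟨e⟩⟩ | ⟨F, _, _, _, m, hm, -, ⟨e⟩⟩ | ⟨F, _, _, _, n, q, hq2, hn, -, ⟨e⟩⟩ |
    ⟨F, _, _, _, m, -, hodd, -⟩ | ⟨F, _, _, _, m, hm, ⟨e⟩⟩ | ⟨F, _, _, _, m, a, b, hm, hab, ⟨e⟩⟩ |
    ⟨F, _, _, _, h⟩ | ⟨K, _, _, _, q, hq, h⟩ | ⟨-, h⟩ | ⟨-, h⟩ | ⟨h, -⟩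
  · exact NC.congr e Lin.nc_sl
  · exact NC.congr e (Sp.nc_psp hm)
  · exact NC.congr e (Uni.nc_psu hq2 hn)
  · exfalso
    obtain ⟨n, -, hc⟩ := FiniteField.card F 2
    rw [hc] at hodd
    have h1 : _root_.Odd 2 := (Nat.odd_pow_iff n.2.ne').1 hodd
    exact absurd h1 (by decide)
  · exact NC.congr e (OMinus.nc_pomega_plus hm)
  · exact NC.congr e (OMinus.nc_pomega hab hm)
  · rcases h with ⟨-, ⟨e⟩⟩ | h | h | h | h
    · exact NC.congr e Exc.nc_g2
    · exact NC.congr h.some Exc.nc_f4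
    · exact NC.congr h.some Exc.nc_e6
    · exact NC.congr h.some Exc.nc_e7
    · exact NC.congr h.some Exc.nc_e8
  · rcases h with ⟨hK, ⟨e⟩⟩ | ⟨hK, ⟨e⟩⟩
    · exact NC.congr e (TwExc.nc_te6 hK hq)
    · exact NC.congr e (TwExc.nc_td4 hK hq)
  · obtain ⟨F, _, _, m, hm, hF, ⟨e⟩⟩ := h
    exact NC.congr e (TwF4.nc_sz m hm hF)
  · obtain ⟨K, _, _, m, hm, hK, ⟨e⟩⟩ := h
    exact NC.congr e (TwF4.nc_tf4 m hm hK)
  · exact absurd h (by norm_num)

/-- a sporadic group is `J4`, `B` or satisfies `NC` -/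
theorem spor (h : IsSporadicGroup G) : NC G ∨ Cfsg.Spor.IsoJ4 G ∨ Cfsg.Spor.IsoB G := by
  rcases h with h | h | h | h | h | h | h | h | h | h | h | h | h | h | h | h | h | h | h | h | h | h | h | h | h | h
  · exact Or.inl (NC.of_card (by rw [NotCT.Orders.m11 h]; decide))
  · exact Or.inl (NC.of_card (by rw [NotCT.Orders.m12 h]; decide))
  · exact Or.inl (NC.of_card (by rw [NotCT.Orders.m22 h]; decide))
  · exact Or.inl (NC.of_card (by rw [NotCT.Orders.m23 h]; decide))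
  · exact Or.inl (NC.of_card (by rw [NotCT.Orders.m24 h]; decide))
  · exact Or.inl (NC.of_card (by rw [NotCT.Orders.j1 h]; decide))
  · exact Or.inl (NC.of_card (by rw [NotCT.Orders.j2 h]; decide))
  · exact Or.inl (NC.of_card (by rw [NotCT.Orders.j3 h]; decide))
  · exact Or.inr (Or.inl h)
  · obtain ⟨e⟩ := h
    exact Or.inl (NC.congr e Spor.nc_co1)
  · exact Or.inl (NC.of_card (by rw [NotCT.Orders.co2 h]; decide))
  · exact Or.inl (NC.of_card (by rw [NotCT.Orders.co3 h]; decide))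
  · exact Or.inl (NC.of_card (by rw [NotCT.Orders.mcl h]; decide))
  · exact Or.inl (NC.of_card (by rw [NotCT.Orders.hs h]; decide))
  · exact Or.inl (NC.of_card (by rw [NotCT.Orders.suz h]; decide))
  · exact Or.inl (NC.of_card (by rw [NotCT.Orders.he h]; decide))
  · exact Or.inl (NC.of_card (by rw [NotCT.Orders.ru h]; decide))
  · exact Or.inl (NC.of_card (by rw [NotCT.Orders.on h]; decide))
  · exact Or.inl (NC.of_card (by rw [NotCT.Orders.ly h]; decide))
  · exact Or.inl (NC.of_card (by rw [NotCT.Orders.fi22 h]; decide))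
  · exact Or.inl (NC.of_card (by rw [NotCT.Orders.fi23 h]; decide))
  · obtain ⟨e⟩ := h
    exact Or.inl (NC.congr e Spor.nc_fi24)
  · exact Or.inl (NC.of_card (by rw [NotCT.Orders.hn h]; decide))
  · exact Or.inl (NC.of_card (by rw [NotCT.Orders.th h]; decide))
  · exact Or.inr (Or.inr h)
  · exact Or.inl (Spor.nc_m h)

/-- **The elimination.** -/
theorem main [Finite G] [IsSimpleGroup G] (hG : ¬ IsMulCommutative G) (hK : IsKnownSimple' G) {f : G}
    (hf : f ≠ 1) (hff : f * f = 1) (hcard : Nat.card ↥(Cfsg.twoCoreOfCentralizer f) = 2 ^ 11)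
    (hq : Nonempty (↥(centralizer ({f} : Set G)) ⧸ Cfsg.pCore 2 ↥(centralizer ({f} : Set G)) ≃*
      MulAut ↥Cfsg.Spor.M22)) : Cfsg.Spor.IsoJ4 G := by
  have hc := Base.card_cent hcard hq
  have hnc : NC G → Cfsg.Spor.IsoJ4 G := fun h => absurd hc (h f hf hff)
  rcases Cfsg.Agent.OddHalf.Known.classify hG hK with ⟨n, -, ⟨e⟩⟩ | ⟨p, hp, hp2, h⟩ | (h | h) | h
  · exact hnc (NC.congr e (nc_alt n))
  · exact (Odd.odd hp hp2 h hff hcard hq).elim
  · exact hnc (nc_even h)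
  · exact hnc (NC.of_card (by rw [NotCT.Orders.tits h]; decide))
  · rcases spor h with h | h | h
    · exact hnc h
    · exact h
    · exact (SpB.false_b h hf hff hcard hq).elim

end Cfsg.Agent.R2.H3.Main
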