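import Cfsg.Agent.R2.H3.Alt

/-!
# S3319: numbers (helper3, second round)
-/

set_option autoImplicit false

namespace Cfsg.Agent.R2.H3

theorem two_part {k E m : ℕ} (hm : Odd m) (h : (2 ^ k) ^ E * m = 2 ^ 19 * 3465) : k * E = 19 ∧ m = 3465 := by
  rw [← pow_mul] at h
  have h1 : 2 ^ (k * E) ∣ 2 ^ 19 := by
    have h2 : Nat.Coprime (2 ^ (k * E)) 3465 := Nat.Coprime.pow_left _ (by norm_num)
    exact h2.dvd_of_dvd_mul_right (by rw [← h]; exact dvd_mul_right _ _)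
  have h3 : 2 ^ 19 ∣ 2 ^ (k * E) := by
    have h2 : Nat.Coprime (2 ^ 19) m := Nat.Coprime.pow_left _ (Nat.coprime_two_left.2 hm)
    exact h2.dvd_of_dvd_mul_right (by rw [h]; exact dvd_mul_right _ _)
  have h4 : k * E = 19 := by
    have := Nat.dvd_antisymm h1 h3
    exact Nat.pow_right_injective (le_refl 2) this
  refine ⟨h4, ?_⟩
  rw [h4] at h
  exact Nat.eq_of_mul_eq_mul_left (by norm_num) h

theorem prime_cases {k E : ℕ} (h : k * E = 19) : (k = 1 ∧ E = 19) ∨ (k = 19 ∧ E = 1) := by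
  have hp : Nat.Prime 19 := by norm_num
  rcases (Nat.dvd_prime hp).1 (Dvd.intro _ h) with h1 | h1
  · left
    exact ⟨h1, by rw [h1, one_mul] at h; exact h⟩
  · right
    refine ⟨h1, ?_⟩
    rw [h1] at h
    omega

theorem odd_sub {q k : ℕ} (hq : Even q) (hq0 : 0 < q) (hk : k ≠ 0) : Odd (q ^ k - 1) := by
  have h1 : Even (q ^ k) := hq.pow_of_ne_zero hk
  have h2 : 1 ≤ q ^ k := Nat.one_le_pow _ _ hq0
  obtain ⟨m, hm⟩ := h1
  exact ⟨m - 1, by omega⟩

theorem odd_prod {ι : Type*} (s : Finset ι) (f : ι → ℕ) (h : ∀ i ∈ s, Odd (f i)) : Odd (∏ i ∈ s, f i) := by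
  apply Finset.prod_induction
  · intro a b ha hb; exact ha.mul hb
  · exact odd_one
  · exact h

theorem odd_sp {q : ℕ} (hq : Even q) (hq0 : 0 < q) (r : ℕ) : Odd (∏ i : Fin r, (q ^ (2 * ((i : ℕ) + 1)) - 1)) :=
  odd_prod _ _ fun i _ => odd_sub hq hq0 (by omega)

theorem card_two_pow (F : Type*) [Field F] [Fintype F] [CharP F 2] : ∃ k, k ≠ 0 ∧ Fintype.card F = 2 ^ k := by
  obtain ⟨n, -, hc⟩ := FiniteField.card F 2
  exact ⟨n, n.ne_zero, hc⟩

theorem eq_zero_of_rank {F : Type*} [Field F] {n : Type*} [Fintype n] [DecidableEq n] {A : Matrix n n F}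
    (h : A.rank = 0) : A = 0 := by
  rw [Matrix.rank, Submodule.finrank_eq_zero] at h
  have h1 : A.mulVecLin = 0 := LinearMap.range_eq_bot.1 h
  apply Matrix.toLin'.injective
  rw [map_zero, Matrix.toLin'_apply']
  exact h1

end Cfsg.Agent.R2.H3
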