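import Cfsg.Agent.R2.H3.Quot
import Cfsg.Agent.ClassicalGeometry.OrthDickson
import Cfsg.Agent.H177.InvolForms
import Cfsg.Agent.S0287
import Cfsg.Agent.S0288
import Cfsg.Agent.S0293
import Cfsg.Agent.S0294

/-!
# S3319: the centres of the orthogonal groups in characteristic 2 (helper3, second round)
-/

set_option autoImplicit false

namespace Cfsg.Agent.R2.H3.OCen

open Subgroup Cfsg Cfsg.Agent.R2.H3 Cfsg.Agent.ClassicalGeometry.OrthDickson
open Cfsg.Agent.LieClassical.OrthForms Cfsg.Agent.H177.InvolForms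

theorem card_center_eq_one {X : Type*} [Group X] [Finite X] {c : ℕ}
    (h : Nat.card X = c) (h' : Nat.card (X ⧸ center X) = c) : Nat.card ↥(center X) = 1 := by
  have h1 := Subgroup.card_eq_card_quotient_mul_card_subgroup (center X)
  rw [h, h'] at h1
  have h2 : 0 < c := by rw [← h]; exact Nat.card_pos
  exact (Nat.eq_of_mul_eq_mul_left h2 (by rw [mul_one]; exact h1)).symm

theorem gcd_four {q m : ℕ} (h : Odd m) : Nat.gcd 4 m = 1 := by
  have h1 : Nat.Coprime (2 ^ 2) m := Nat.Coprime.pow_left _ (Nat.coprime_two_left.2 h)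
  exact h1

theorem index_plus {F : Type} [Field F] [Fintype F] [CharP F 2] {m : ℕ} (hm : 4 ≤ m) :
    (Cfsg.Omega F (Cfsg.quadFormPlus m F)).index = 2 := by
  have hne : Nonempty (Fin m ⊕ Fin m) := ⟨Sum.inl ⟨0, by omega⟩⟩
  have h1 := index_commutator_two (plusForm m F) CharTwo.two_eq_zero (plus_nondegenerate m F)
    (Or.inr (by rw [Fintype.card_sum, Fintype.card_fin]; omega))
  rw [coe_plusForm] at h1
  exact h1

theorem center_plus {F : Type} [Field F] [Fintype F] [CharP F 2] {m : ℕ} (hm : 4 ≤ m) :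
    Nat.card ↥(center ↥(Cfsg.Omega F (Cfsg.quadFormPlus m F))) = 1 := by
  obtain ⟨k, hk, hF⟩ := card_two_pow F
  have hq : Even (2 ^ k) := even_two.pow_of_ne_zero hk
  have hq0 : 0 < 2 ^ k := by positivity
  have h1 := Cfsg.Agent.S0287.result hF m (by omega)
  have h2 := Cfsg.Agent.S0293.result hF m hm
  have h3 : Nat.gcd 4 ((2 ^ k) ^ m - 1) = 1 := gcd_four (q := 0) (odd_sub hq hq0 (by omega))
  rw [h3, one_mul] at h2
  refine card_center_eq_one ?_ h2
  have h4 := (Cfsg.Omega F (Cfsg.quadFormPlus m F)).card_mul_index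
  rw [index_plus hm, h1] at h4
  apply Nat.eq_of_mul_eq_mul_right (Nat.succ_pos 1)
  rw [h4]
  ring

theorem index_minus {F : Type} [Field F] [Fintype F] [CharP F 2] {m : ℕ} (hm : 4 ≤ m) {a b : F}
    (hab : ∀ z₁ z₂ : F, z₁ ^ 2 + a * z₁ * z₂ + b * z₂ ^ 2 = 0 → z₁ = 0 ∧ z₂ = 0) :
    (Cfsg.Omega F (Cfsg.quadFormMinus (m - 1) F a b)).index = 2 := by
  have hne : Nonempty ((Fin (m - 1) ⊕ Fin (m - 1)) ⊕ Fin 2) := ⟨Sum.inr 0⟩
  have h1 := index_commutator_two (minusForm (m - 1) F a b) CharTwo.two_eq_zero (minus_nondegenerate a b (m - 1) hab)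
    (Or.inr (by rw [Fintype.card_sum, Fintype.card_sum, Fintype.card_fin, Fintype.card_fin]; omega))
  rw [coe_minusForm] at h1
  exact h1

theorem center_minus {F : Type} [Field F] [Fintype F] [CharP F 2] {m : ℕ} (hm : 4 ≤ m) {a b : F}
    (hab : ∀ z₁ z₂ : F, z₁ ^ 2 + a * z₁ * z₂ + b * z₂ ^ 2 = 0 → z₁ = 0 ∧ z₂ = 0) :
    Nat.card ↥(center ↥(Cfsg.Omega F (Cfsg.quadFormMinus (m - 1) F a b))) = 1 := by
  obtain ⟨k, hk, hF⟩ := card_two_pow F
  have hq : Even (2 ^ k) := even_two.pow_of_ne_zero hk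
  have h1 := Cfsg.Agent.S0288.result hF m (by omega) a b hab
  have h2 := Cfsg.Agent.S0294.result hF m hm a b hab
  have h3 : Nat.gcd 4 ((2 ^ k) ^ m + 1) = 1 := gcd_four (q := 0) ((hq.pow_of_ne_zero (by omega)).add_one)
  rw [h3, one_mul] at h2
  refine card_center_eq_one ?_ h2
  have h4 := (Cfsg.Omega F (Cfsg.quadFormMinus (m - 1) F a b)).card_mul_index
  rw [index_minus hm hab, h1] at h4
  apply Nat.eq_of_mul_eq_mul_right (Nat.succ_pos 1)
  rw [h4]
  ring

/-- from `Ω` to `PΩ` -/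
theorem nc_quot {X : Type*} [Group X] (h : Nat.card ↥(center X) = 1) (hX : NC X) : NC (X ⧸ center X) :=
  hX.congr ((QuotientGroup.quotientMulEquivOfEq (Subgroup.eq_bot_of_card_eq _ h)).trans QuotientGroup.quotientBot)

end Cfsg.Agent.R2.H3.OCen
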