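import Cfsg.Agent.R2.H3.OMStd

/-!
# S3319: pointwise stabilisers in the minus-type orthogonal groups, characteristic two (helper3, second round)
-/

set_option autoImplicit false
set_option linter.unusedSectionVars false

namespace Cfsg.Agent.R2.H3.OMCount

open QuadraticMap Matrix Module
open Cfsg.Agent.ClassicalGeometry.Reflection
open Cfsg.Agent.ClassicalGeometry.OrthCharTwo
open Cfsg.Agent.H177.InvolGroup
open Cfsg.Agent.H177.InvolForms
open Cfsg.Agent.LieClassical.OrthForms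
open Cfsg.Agent.H196 Cfsg.Agent.R2.H3.OMStd

variable {F : Type*} [Field F] (a b : F)

theorem card_ne_zero_sing [Finite F] (n : ℕ) :
    Nat.card {u : (Fin n ⊕ Fin n) ⊕ Fin 2 → F // u ≠ 0 ∧ Cfsg.quadFormMinus n F a b u = 0} + 1
      = Nat.card {u : (Fin n ⊕ Fin n) ⊕ Fin 2 → F // Cfsg.quadFormMinus n F a b u = 0} := by
  classical
  have h0 : Cfsg.quadFormMinus n F a b (0 : (Fin n ⊕ Fin n) ⊕ Fin 2 → F) = 0 := by
    rw [quadFormMinus_apply]
    simp
  let e : Option {u : (Fin n ⊕ Fin n) ⊕ Fin 2 → F // u ≠ 0 ∧ Cfsg.quadFormMinus n F a b u = 0} ≃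
      {u : (Fin n ⊕ Fin n) ⊕ Fin 2 → F // Cfsg.quadFormMinus n F a b u = 0} :=
    { toFun := fun o => o.elim ⟨0, h0⟩ fun u => ⟨u.1, u.2.2⟩
      invFun := fun u => if h : u.1 = 0 then none else some ⟨u.1, h, u.2⟩
      left_inv := fun o => by
        rcases o with _ | ⟨u, hu, hu'⟩
        · simp
        · simp [hu]
      right_inv := fun u => by
        by_cases h : u.1 = 0
        · simp only [h, dite_true, Option.elim_none]
          exact Subtype.ext h.symm
        · simp [h] }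
  rw [← Nat.card_congr e, Finite.card_option]

variable (hab : ∀ z₁ z₂ : F, z₁ ^ 2 + a * z₁ * z₂ + b * z₂ ^ 2 = 0 → z₁ = 0 ∧ z₂ = 0)

/-- **The pointwise stabiliser of the standard totally singular `k`-space.** -/
theorem card_fixing_std [Fintype F]
    (hab : ∀ z₁ z₂ : F, z₁ ^ 2 + a * z₁ * z₂ + b * z₂ ^ 2 = 0 → z₁ = 0 ∧ z₂ = 0) (k : ℕ) : ∀ m n : ℕ, m = k + n →
    Nat.card (fixing (⇑(minusForm m F a b)) (stdM m k F))
      = Nat.card F ^ (k * (k - 1) / 2 + 2 * k * (n + 1)) *
        Nat.card (Cfsg.isometryGroup F (Cfsg.quadFormMinus n F a b)) := by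
  induction k with
  | zero =>
    intro m n hmn
    obtain rfl : m = n := by omega
    rw [stdM_zero, fixing_bot, Nat.card_congr Subgroup.topEquiv.toEquiv, coe_minusForm]
    simp
  | succ k ih =>
    intro m n hmn
    have h1 := ih m (n + 1) (by omega)
    have hk : k < m := by omega
    rw [card_fixing_step (minusForm m F a b) (minus_nondegenerate a b m hab) (stdM m k F) (mx m F ⟨k, hk⟩)
      (mx_notMem hk), ← stdM_succ hk, Cfsg.Agent.S0288.step n a b hab] at h1
    have h2 : Nat.card {w : (Fin m ⊕ Fin m) ⊕ Fin 2 → F // w ∉ stdM m k F ∧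
        minusForm m F a b w = minusForm m F a b (mx m F ⟨k, hk⟩) ∧ ∀ x ∈ stdM m k F,
          polar (minusForm m F a b) x w = polar (minusForm m F a b) x (mx m F ⟨k, hk⟩)}
        = Nat.card F ^ k * Nat.card {u : (Fin (n + 1) ⊕ Fin (n + 1)) ⊕ Fin 2 → F //
            u ≠ 0 ∧ Cfsg.quadFormMinus (n + 1) F a b u = 0} := by
      have hm : m = k + (n + 1) := by omega
      subst hm
      rw [← OMStd.card_ext]
      apply Nat.card_congr
      refine Equiv.subtypeEquivRight fun w => ?_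
      rw [OMStd.Q_mx]
      have h3 : ∀ x ∈ stdM (k + (n + 1)) k F,
          polar (minusForm (k + (n + 1)) F a b) x (mx (k + (n + 1)) F ⟨k, hk⟩) = 0 := by
        rw [polar_stdM_iff]
        intro i _
        simp [mx]
      exact and_congr_right fun _ => and_congr_right fun _ =>
        ⟨fun h x hx => (h x hx).trans (h3 x hx), fun h x hx => (h x hx).trans (h3 x hx).symm⟩
    have h4 := card_ne_zero_sing a b (n + 1)
    set c := Nat.card {u : (Fin (n + 1) ⊕ Fin (n + 1)) ⊕ Fin 2 → F //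
            u ≠ 0 ∧ Cfsg.quadFormMinus (n + 1) F a b u = 0} with ha
    have h5 : Nat.card {u : (Fin (n + 1) ⊕ Fin (n + 1)) ⊕ Fin 2 → F //
        Cfsg.quadFormMinus (n + 1) F a b u = 0} - 1 = c := by omega
    rw [h2, h5] at h1
    have ha0 : 0 < c := by
      rw [ha]
      apply Nat.card_pos_iff.2
      refine ⟨⟨⟨mx (n + 1) F 0, ?_, ?_⟩⟩, inferInstance⟩
      · intro h
        have := congrFun h (Sum.inl (Sum.inl 0))
        simp [mx] at this
      · have := OMStd.Q_mx a b (n + 1) 0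
        rwa [coe_minusForm] at this
    have hq : 0 < Nat.card F := Nat.card_pos
    have h6 : Nat.card F ^ k * c ≠ 0 := by positivity
    apply Nat.eq_of_mul_eq_mul_left (Nat.pos_of_ne_zero h6)
    rw [h1, range_succ]
    have h7 : k * (k - 1) / 2 + 2 * k * (n + 1 + 1) + (2 * n + 2) =
        k + (k * (k - 1) / 2 + k + 2 * (k + 1) * (n + 1)) := by
      ring
    calc _ = c * (Nat.card F ^ (k * (k - 1) / 2 + 2 * k * (n + 1 + 1) + (2 * n + 2))) *
          Nat.card (Cfsg.isometryGroup F (Cfsg.quadFormMinus n F a b)) := by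
          rw [pow_add (Nat.card F) (k * (k - 1) / 2 + 2 * k * (n + 1 + 1))]; ring
      _ = _ := by
          rw [h7, pow_add (Nat.card F) k]; ring

/-- **The pointwise stabiliser of a totally singular `k`-space of the minus-type form.** -/
theorem card_fixing_singular [Fintype F]
    (hab : ∀ z₁ z₂ : F, z₁ ^ 2 + a * z₁ * z₂ + b * z₂ ^ 2 = 0 → z₁ = 0 ∧ z₂ = 0) (k m n : ℕ) (hm : m = k + n)
    (M : Submodule F ((Fin m ⊕ Fin m) ⊕ Fin 2 → F)) (hM : ∀ x ∈ M, minusForm m F a b x = 0)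
    (hd : finrank F M = k) :
    Nat.card (fixing (⇑(minusForm m F a b)) M)
      = Nat.card F ^ (k * (k - 1) / 2 + 2 * k * (n + 1)) *
        Nat.card (Cfsg.isometryGroup F (Cfsg.quadFormMinus n F a b)) := by
  obtain ⟨g, hg⟩ := exists_iso_map (minusForm m F a b) (minus_nondegenerate a b m hab) M (stdM m k F) hM
    (fun x hx => stdM_singular a b hx) (by rw [hd, finrank_stdM (by omega)])
  rw [← card_fixing_std a b hab k m n hm, ← hg, card_fixing_map]

/-- the number of extensions of a totally singular space -/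
theorem card_ext_singular [Fintype F]
    (hab : ∀ z₁ z₂ : F, z₁ ^ 2 + a * z₁ * z₂ + b * z₂ ^ 2 = 0 → z₁ = 0 ∧ z₂ = 0) (k m n : ℕ) (hm : m = k + n)
    (M : Submodule F ((Fin m ⊕ Fin m) ⊕ Fin 2 → F)) (hM : ∀ x ∈ M, minusForm m F a b x = 0)
    (hd : finrank F M = k) (c : F) :
    Nat.card {w : (Fin m ⊕ Fin m) ⊕ Fin 2 → F // w ∉ M ∧ minusForm m F a b w = c ∧
        ∀ x ∈ M, polar (minusForm m F a b) x w = 0}
      = Nat.card F ^ k * Nat.card {u : (Fin n ⊕ Fin n) ⊕ Fin 2 → F // u ≠ 0 ∧ Cfsg.quadFormMinus n F a b u = c} := by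
  obtain ⟨g, hg⟩ := exists_iso_map (minusForm m F a b) (minus_nondegenerate a b m hab) M (stdM m k F) hM
    (fun x hx => stdM_singular a b hx) (by rw [hd, finrank_stdM (by omega)])
  subst hm
  rw [← OMStd.card_ext]
  refine Nat.card_congr (Equiv.subtypeEquiv (actEquiv g).toEquiv fun w => ?_)
  have h1 : (actEquiv g).toEquiv w = act g w := rfl
  rw [h1, Q_act (Q := ⇑(minusForm (k + n) F a b)), ← hg]
  refine and_congr ?_ (and_congr_right fun _ => ?_)
  · rw [not_iff_not]
    constructor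
    · intro hw
      exact Submodule.mem_map_of_mem hw
    · rintro ⟨y, hy, hyw⟩
      rw [LinearEquiv.coe_coe, actEquiv_apply] at hyw
      have := congrArg (act g⁻¹) hyw
      rw [act_inv_act, act_inv_act] at this
      rwa [← this]
  · constructor
    · rintro h _ ⟨y, hy, rfl⟩
      rw [LinearEquiv.coe_coe, actEquiv_apply]
      exact (polar_act (Q := ⇑(minusForm (k + n) F a b)) g y w).trans (h y hy)
    · intro h x hx
      rw [← polar_act (Q := ⇑(minusForm (k + n) F a b)) g x w]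
      exact h _ (Submodule.mem_map_of_mem hx)

/-- the number of vectors of the minus-type form with a given non-zero value, characteristic two -/
theorem card_value [Fintype F] [CharP F 2]
    (hab : ∀ z₁ z₂ : F, z₁ ^ 2 + a * z₁ * z₂ + b * z₂ ^ 2 = 0 → z₁ = 0 ∧ z₂ = 0) (n : ℕ) (c : F) (hc : c ≠ 0) :
    Nat.card {u : (Fin n ⊕ Fin n) ⊕ Fin 2 → F // u ≠ 0 ∧ Cfsg.quadFormMinus n F a b u = c}
      = Nat.card F ^ n * (Nat.card F ^ (n + 1) + 1) := by
  classical
  -- all the nonzero values occur equally often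
  have hsm : ∀ (t : F) (u : (Fin n ⊕ Fin n) ⊕ Fin 2 → F), Cfsg.quadFormMinus n F a b (t • u) =
      t * t * Cfsg.quadFormMinus n F a b u := by
    intro t u
    have h := (minusForm n F a b).map_smul t u
    rw [coe_minusForm] at h
    exact h
  have h1 : ∀ d : F, d ≠ 0 → Nat.card {u : (Fin n ⊕ Fin n) ⊕ Fin 2 → F // Cfsg.quadFormMinus n F a b u = d} =
      Nat.card {u : (Fin n ⊕ Fin n) ⊕ Fin 2 → F // Cfsg.quadFormMinus n F a b u = c} := by
    intro d hd
    obtain ⟨t, ht⟩ := Cfsg.Agent.H176.SymmCharTwo.exists_sq (c * d⁻¹)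
    have ht0 : t ≠ 0 := by
      rintro rfl
      rw [mul_zero] at ht
      rcases mul_eq_zero.1 ht.symm with h | h
      · exact hc h
      · exact hd (inv_eq_zero.1 h)
    refine Nat.card_congr (Equiv.subtypeEquiv (LinearEquiv.smulOfNeZero F _ t ht0).toEquiv fun u => ?_)
    change _ ↔ Cfsg.quadFormMinus n F a b (t • u) = c
    rw [hsm, ht]
    constructor
    · intro h
      rw [h, mul_assoc, inv_mul_cancel₀ hd, mul_one]
    · intro h
      rw [mul_assoc] at h
      have h2 := mul_left_cancel₀ hc (h.trans (mul_one c).symm)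
      rw [inv_mul_eq_iff_eq_mul₀ hd, mul_one] at h2
      exact h2
  have h2 : Nat.card {u : (Fin n ⊕ Fin n) ⊕ Fin 2 → F // u ≠ 0 ∧ Cfsg.quadFormMinus n F a b u = c}
      = Nat.card {u : (Fin n ⊕ Fin n) ⊕ Fin 2 → F // Cfsg.quadFormMinus n F a b u = c} := by
    apply Nat.card_congr
    refine Equiv.subtypeEquivRight fun w => ?_
    refine and_iff_right_of_imp fun h => ?_
    rintro rfl
    apply hc
    rw [← h, quadFormMinus_apply]
    simp
  rw [h2]
  -- total number
  have h3 : Nat.card ((Fin n ⊕ Fin n) ⊕ Fin 2 → F) =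
      ∑ d : F, Nat.card {u : (Fin n ⊕ Fin n) ⊕ Fin 2 → F // Cfsg.quadFormMinus n F a b u = d} := by
    rw [← Nat.card_sigma]
    exact Nat.card_congr (Equiv.sigmaFiberEquiv (Cfsg.quadFormMinus n F a b)).symm
  rw [← Finset.add_sum_erase _ _ (Finset.mem_univ (0 : F)), Finset.sum_congr rfl (fun d hd =>
    h1 d (Finset.ne_of_mem_erase hd)), Finset.sum_const, Finset.card_erase_of_mem (Finset.mem_univ _), Finset.card_univ,
    smul_eq_mul] at h3
  have h4 := Cfsg.Agent.S0290.result (F := F) rfl (n + 1) (by omega) a b hab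
  rw [Nat.add_sub_cancel] at h4
  rw [h4, Nat.card_fun, ← Nat.card_eq_fintype_card] at h3
  have h5 : Nat.card ((Fin n ⊕ Fin n) ⊕ Fin 2) = 2 * (n + 1) := by
    rw [Nat.card_eq_fintype_card, Fintype.card_sum, Fintype.card_sum, Fintype.card_fin, Fintype.card_fin]
    ring
  rw [h5] at h3
  have hq : 1 < Nat.card F := Finite.one_lt_card
  set q := Nat.card F with hqd
  set x := Nat.card {u : (Fin n ⊕ Fin n) ⊕ Fin 2 → F // Cfsg.quadFormMinus n F a b u = c} with hx
  obtain ⟨p, hp⟩ : ∃ p, q = p + 1 := ⟨q - 1, by omega⟩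
  have hp0 : 0 < p := by omega
  have e1 : 2 * (n + 1) - 1 = n + (n + 1) := by omega
  have e2 : 2 * (n + 1) = n + (n + 1) + 1 := by omega
  have e3 : q ^ (n + 1) ≤ q ^ (n + (n + 1)) + q ^ n := by
    have : q ^ (n + 1) ≤ q ^ (n + (n + 1)) := Nat.pow_le_pow_right (by omega) (by omega)
    omega
  rw [e1, e2] at h3
  obtain ⟨y, hy⟩ : ∃ y, q ^ (n + (n + 1)) + q ^ n - q ^ (n + 1) = y := ⟨_, rfl⟩
  have hy2 : y + q ^ (n + 1) = q ^ (n + (n + 1)) + q ^ n := by omega
  rw [hy] at h3
  apply Nat.eq_of_mul_eq_mul_left hp0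
  have h6 : (q - 1) = p := by omega
  rw [h6] at h3
  have h7 : p * x + y = q ^ (n + (n + 1) + 1) := by rw [h3]; ring
  have h8 : p * (q ^ n * (q ^ (n + 1) + 1)) + y = q ^ (n + (n + 1) + 1) := by
    have h9 : q ^ (n + 1) = q ^ n * (p + 1) := by rw [pow_succ, hp]
    have h10 : q ^ (n + (n + 1)) = q ^ n * q ^ (n + 1) := pow_add _ _ _
    have h11 : q ^ (n + (n + 1) + 1) = q ^ n * q ^ (n + 1) * (p + 1) := by rw [pow_succ, pow_add, hp]
    rw [h11]
    have h12 : p * (q ^ n * (q ^ (n + 1) + 1)) + y + q ^ (n + 1) = q ^ n * q ^ (n + 1) * (p + 1) + q ^ (n + 1) := by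
      rw [add_assoc, hy2, h10]
      generalize q ^ (n + 1) = z at h9 ⊢
      rw [h9]
      ring
    omega
  omega

end Cfsg.Agent.R2.H3.OMCount
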