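import Cfsg.Agent.R2.H3.OCen
import Cfsg.Agent.H196.PlusCount
import Cfsg.Agent.H196.OmegaCent
import Cfsg.Agent.S0290

/-!
# S3319: totally singular subspaces of the minus-type form (helper3, second round)

Follows `H196/PlusStd.lean`, `H196/PlusCount.lean`.
-/

set_option autoImplicit false
set_option linter.unusedSectionVars false

namespace Cfsg.Agent.R2.H3.OMStd

open QuadraticMap Matrix Module
open Cfsg.Agent.ClassicalGeometry.Reflection
open Cfsg.Agent.ClassicalGeometry.OrthCharTwo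
open Cfsg.Agent.H177.InvolGroup
open Cfsg.Agent.H177.InvolForms
open Cfsg.Agent.LieClassical.OrthForms
open Cfsg.Agent.H196

variable {F : Type*} [Field F]

/-- The span of the first `k` vectors `x_i`. -/
def stdM (m k : ℕ) (F : Type*) [Field F] : Submodule F ((Fin m ⊕ Fin m) ⊕ Fin 2 → F) where
  carrier := {v | (∀ i, v (Sum.inl (Sum.inr i)) = 0) ∧ (∀ i : Fin m, k ≤ i.1 → v (Sum.inl (Sum.inl i)) = 0) ∧
    ∀ i, v (Sum.inr i) = 0}
  add_mem' {a b} ha hb := ⟨fun i => by rw [Pi.add_apply, ha.1, hb.1, add_zero],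
    fun i hi => by rw [Pi.add_apply, ha.2.1 i hi, hb.2.1 i hi, add_zero],
    fun i => by rw [Pi.add_apply, ha.2.2, hb.2.2, add_zero]⟩
  zero_mem' := ⟨fun _ => rfl, fun _ _ => rfl, fun _ => rfl⟩
  smul_mem' c a ha := ⟨fun i => by rw [Pi.smul_apply, ha.1, smul_zero],
    fun i hi => by rw [Pi.smul_apply, ha.2.1 i hi, smul_zero],
    fun i => by rw [Pi.smul_apply, ha.2.2, smul_zero]⟩

theorem mem_stdM {m k : ℕ} {v : (Fin m ⊕ Fin m) ⊕ Fin 2 → F} :
    v ∈ stdM m k F ↔ (∀ i, v (Sum.inl (Sum.inr i)) = 0) ∧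
      (∀ i : Fin m, k ≤ i.1 → v (Sum.inl (Sum.inl i)) = 0) ∧ ∀ i, v (Sum.inr i) = 0 := Iff.rfl

theorem stdM_zero (m : ℕ) : stdM m 0 F = ⊥ := by
  rw [eq_bot_iff]
  intro v hv
  rw [Submodule.mem_bot]
  funext i
  rcases i with (i | i) | i
  · exact hv.2.1 i (Nat.zero_le _)
  · exact hv.1 i
  · exact hv.2.2 i

variable (a b : F)

theorem stdM_singular {m k : ℕ} {v : (Fin m ⊕ Fin m) ⊕ Fin 2 → F} (hv : v ∈ stdM m k F) :
    minusForm m F a b v = 0 := by
  rw [coe_minusForm, quadFormMinus_apply, hv.2.2, hv.2.2, Finset.sum_eq_zero fun i _ => by rw [hv.1, mul_zero]]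
  ring

theorem Q_mx (m : ℕ) (i : Fin m) : minusForm m F a b (mx m F i) = 0 := by
  rw [coe_minusForm, quadFormMinus_apply]
  simp [mx]

theorem stdM_succ {m k : ℕ} (hk : k < m) :
    stdM m (k + 1) F = stdM m k F ⊔ Submodule.span F {mx m F ⟨k, hk⟩} := by
  apply le_antisymm
  · intro v hv
    rw [Submodule.mem_sup]
    refine ⟨v - v (Sum.inl (Sum.inl ⟨k, hk⟩)) • mx m F ⟨k, hk⟩, ⟨?_, ?_, ?_⟩,
      v (Sum.inl (Sum.inl ⟨k, hk⟩)) • mx m F ⟨k, hk⟩,
      Submodule.smul_mem _ _ (Submodule.mem_span_singleton_self _), by abel⟩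
    · intro i
      simp [mx, hv.1 i]
    · intro i hi
      by_cases h : i = ⟨k, hk⟩
      · subst h
        simp [mx]
      · have h1 : k + 1 ≤ i.1 := by
          rcases Nat.lt_or_ge k i.1 with h2 | h2
          · exact h2
          · exact absurd (Fin.ext (le_antisymm h2 hi)) h
        simp [mx, hv.2.1 i h1, Pi.single_apply, h]
    · intro i
      simp [mx, hv.2.2 i]
  · rw [sup_le_iff]
    constructor
    · intro v hv
      exact ⟨hv.1, fun i hi => hv.2.1 i (by omega), hv.2.2⟩
    · rw [Submodule.span_singleton_le_iff_mem]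
      refine ⟨fun i => by simp [mx], fun i hi => ?_, fun i => by simp [mx]⟩
      have h : i ≠ ⟨k, hk⟩ := by
        rintro rfl
        simp at hi
      simp [mx, Pi.single_apply, h]

theorem mx_notMem {m k : ℕ} (hk : k < m) : mx m F ⟨k, hk⟩ ∉ stdM m k F := by
  intro h
  have := h.2.1 ⟨k, hk⟩ le_rfl
  simp [mx] at this

theorem finrank_stdM {m k : ℕ} (hk : k ≤ m) : finrank F (stdM m k F) = k := by
  induction k with
  | zero => rw [stdM_zero, finrank_bot]
  | succ k ih =>
    have h1 := ih (by omega)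
    have h2 : stdM m k F ⊓ Submodule.span F {mx m F ⟨k, hk⟩} = ⊥ := by
      rw [eq_bot_iff]
      rintro v ⟨hv1, hv2⟩
      obtain ⟨c, rfl⟩ := Submodule.mem_span_singleton.1 hv2
      have h3 := hv1.2.1 ⟨k, hk⟩ le_rfl
      have h4 : c = 0 := by simpa [mx] using h3
      rw [h4, zero_smul]
      exact Submodule.zero_mem _
    have h3 := Submodule.finrank_sup_add_finrank_inf_eq (stdM m k F)
      (Submodule.span F {mx m F ⟨k, hk⟩})
    have h4 : mx m F ⟨k, hk⟩ ≠ 0 := by
      intro h
      exact mx_notMem hk (by rw [h]; exact Submodule.zero_mem _)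
    rw [h2, finrank_bot, finrank_span_singleton h4, ← stdM_succ hk, h1] at h3
    omega

theorem polar_stdM_iff {m k : ℕ} (w : (Fin m ⊕ Fin m) ⊕ Fin 2 → F) :
    (∀ x ∈ stdM m k F, polar (minusForm m F a b) x w = 0) ↔
      ∀ i : Fin m, i.1 < k → w (Sum.inl (Sum.inr i)) = 0 := by
  constructor
  · intro h i hi
    have h1 := h (mx m F i) ⟨fun j => by simp [mx], fun j hj => by
      have : j ≠ i := by rintro rfl; omega
      simp [mx, Pi.single_apply, this], fun j => by simp [mx]⟩
    rw [polar_minusForm] at h1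
    simpa [mx, Pi.single_apply] using h1
  · intro h x hx
    rw [polar_minusForm, hx.2.2, hx.2.2]
    have h1 : ∑ i : Fin m, (x (Sum.inl (Sum.inl i)) * w (Sum.inl (Sum.inr i)) +
        w (Sum.inl (Sum.inl i)) * x (Sum.inl (Sum.inr i))) = 0 := by
      apply Finset.sum_eq_zero
      intro i _
      rw [hx.1 i, mul_zero, add_zero]
      by_cases hi : i.1 < k
      · rw [h i hi, mul_zero]
      · rw [hx.2.1 i (by omega), zero_mul]
    rw [h1]
    ring

/-- Vectors orthogonal to `stdM (k + n) k`. -/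
def glue {k n : ℕ} (c : Fin k → F) (u : (Fin n ⊕ Fin n) ⊕ Fin 2 → F) :
    (Fin (k + n) ⊕ Fin (k + n)) ⊕ Fin 2 → F :=
  Sum.elim (Sum.elim (Fin.append c fun i => u (Sum.inl (Sum.inl i))) (Fin.append 0 fun i => u (Sum.inl (Sum.inr i))))
    fun i => u (Sum.inr i)

theorem glue_form {k n : ℕ} (c : Fin k → F) (u : (Fin n ⊕ Fin n) ⊕ Fin 2 → F) :
    minusForm (k + n) F a b (glue c u) = Cfsg.quadFormMinus n F a b u := by
  rw [coe_minusForm, quadFormMinus_apply, quadFormMinus_apply, Fin.sum_univ_add]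
  simp [glue]

theorem glue_mem {k n : ℕ} (c : Fin k → F) (u : (Fin n ⊕ Fin n) ⊕ Fin 2 → F) :
    glue c u ∈ stdM (k + n) k F ↔ u = 0 := by
  rw [mem_stdM]
  constructor
  · rintro ⟨h1, h2, h3⟩
    funext i
    rcases i with (i | i) | i
    · have := h2 (Fin.natAdd k i) (by simp)
      simpa [glue] using this
    · have := h1 (Fin.natAdd k i)
      simpa [glue] using this
    · have := h3 i
      simpa [glue] using this
  · rintro rfl
    refine ⟨fun i => ?_, fun i hi => ?_, fun i => ?_⟩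
    · refine Fin.addCases (fun i => ?_) (fun i => ?_) i <;> simp [glue]
    · revert hi
      refine Fin.addCases (fun i hi => ?_) (fun i hi => ?_) i
      · exfalso
        simp only [Fin.val_castAdd] at hi
        omega
      · simp [glue]
    · simp [glue]

/-- **The number of extensions.** -/
theorem card_ext [Finite F] (k n : ℕ) (c : F) :
    Nat.card {w : (Fin (k + n) ⊕ Fin (k + n)) ⊕ Fin 2 → F // w ∉ stdM (k + n) k F ∧
        minusForm (k + n) F a b w = c ∧ ∀ x ∈ stdM (k + n) k F, polar (minusForm (k + n) F a b) x w = 0}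
      = Nat.card F ^ k * Nat.card {u : (Fin n ⊕ Fin n) ⊕ Fin 2 → F // u ≠ 0 ∧ Cfsg.quadFormMinus n F a b u = c} := by
  have h1 : Nat.card F ^ k = Nat.card (Fin k → F) := by
    rw [Nat.card_fun, Nat.card_fin]
  rw [h1, ← Nat.card_prod]
  symm
  refine Nat.card_eq_of_bijective (fun p => ⟨glue p.1 p.2.1, by
    rw [glue_mem]; exact p.2.2.1, by rw [glue_form]; exact p.2.2.2, by
    rw [polar_stdM_iff]
    intro i
    refine Fin.addCases (fun i hi => ?_) (fun i hi => ?_) i
    · simp [glue]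
    · simp only [Fin.val_natAdd] at hi
      omega⟩) ⟨?_, ?_⟩
  · rintro ⟨c, u, hu⟩ ⟨d, v, hv⟩ h
    have h2 := congrArg Subtype.val h
    have hab : c = d := by
      funext i
      have := congrFun h2 (Sum.inl (Sum.inl (Fin.castAdd n i)))
      simpa [glue] using this
    have huv : u = v := by
      funext i
      rcases i with (i | i) | i
      · have := congrFun h2 (Sum.inl (Sum.inl (Fin.natAdd k i)))
        simpa [glue] using this
      · have := congrFun h2 (Sum.inl (Sum.inr (Fin.natAdd k i)))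
        simpa [glue] using this
      · have := congrFun h2 (Sum.inr i)
        simpa [glue] using this
    subst hab huv
    rfl
  · rintro ⟨w, hw1, hw2, hw3⟩
    rw [polar_stdM_iff] at hw3
    set u : (Fin n ⊕ Fin n) ⊕ Fin 2 → F := Sum.elim (Sum.elim (fun i => w (Sum.inl (Sum.inl (Fin.natAdd k i))))
      (fun i => w (Sum.inl (Sum.inr (Fin.natAdd k i))))) (fun i => w (Sum.inr i)) with hu
    set d : Fin k → F := fun i => w (Sum.inl (Sum.inl (Fin.castAdd n i))) with ha
    have hg : glue d u = w := by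
      funext i
      rcases i with (i | i) | i
      · refine Fin.addCases (fun i => ?_) (fun i => ?_) i <;> simp [glue, hu, ha]
      · refine Fin.addCases (fun i => ?_) (fun i => ?_) i
        · simp only [glue, Sum.elim_inr, Sum.elim_inl, Fin.append_left, Pi.zero_apply]
          exact (hw3 (Fin.castAdd n i) i.2).symm
        · simp [glue, hu]
      · simp [glue, hu]
    refine ⟨⟨d, u, ?_, ?_⟩, Subtype.ext hg⟩
    · intro h0
      exact hw1 (by rw [← hg, glue_mem]; exact h0)
    · rw [← glue_form a b d u, hg]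
      exact hw2

end Cfsg.Agent.R2.H3.OMStd
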