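import Cfsg.Agent.R2.H3.Comp
import Cfsg.Agent.H73.OddCent
import Cfsg.Agent.H283.OddSpor
import Cfsg.Agent.OrdDiv.Table

/-!
# S3319: the groups of Lie type in odd characteristic (helper3, second round)
-/

set_option autoImplicit false

namespace Cfsg.Agent.R2.H3.Odd

open Subgroup Cfsg Cfsg.Agent.R2.H3.Base Cfsg.Agent.R2.H3.Comp

universe u

theorem ree_odd {G : Type u} [Group G] (h : Lie.IsoRee G) : ¬ 16 ∣ Nat.card G := by
  obtain ⟨F, _, _, m, hm, hF, ⟨e⟩⟩ := h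
  rw [Nat.card_congr e.toEquiv, (OrdDiv.table.{0}).ree F m hm hF]
  set q := 3 ^ (2 * m + 1) with hq
  have h1 : q % 8 = 3 := by
    rw [hq, pow_succ, pow_mul, Nat.mul_mod, Nat.pow_mod]
    norm_num
  have h2 : q ^ 3 % 8 = 3 := by
    rw [Nat.pow_mod, h1]
  obtain ⟨a, ha⟩ : ∃ a, q = 8 * a + 3 := ⟨q / 8, by omega⟩
  obtain ⟨b, hb⟩ : ∃ b, q ^ 3 = 8 * b + 3 := ⟨q ^ 3 / 8, by omega⟩
  rw [hb]
  intro h3
  have h4 : q - 1 = 2 * (4 * a + 1) := by omega
  have h5 : (8 * b + 3) * (q - 1) * (8 * b + 3 + 1) = 8 * ((8 * b + 3) * (4 * a + 1) * (2 * b + 1)) := by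
    rw [h4]; ring
  rw [h5] at h3
  have h6 : 2 ∣ (8 * b + 3) * (4 * a + 1) * (2 * b + 1) := by
    have : 8 * 2 ∣ 8 * ((8 * b + 3) * (4 * a + 1) * (2 * b + 1)) := h3
    exact Nat.dvd_of_mul_dvd_mul_left (by norm_num) this
  have h7 : Odd ((8 * b + 3) * (4 * a + 1) * (2 * b + 1)) :=
    (Odd.mul ⟨4 * b + 1, by ring⟩ ⟨2 * a, by ring⟩).mul ⟨b, rfl⟩
  exact h7.not_two_dvd_nat h6

theorem na_M22 : ¬ ∀ a b : ↥Cfsg.Spor.M22, a * b = b * a := by
  intro h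
  have hs := SporadicA.MathieuRecog.simple_M22
  have hc := SporadicA.MathieuRecog.card_M22
  let _ : CommGroup ↥Cfsg.Spor.M22 := { (inferInstance : Group ↥Cfsg.Spor.M22) with mul_comm := h }
  have hp : (Nat.card ↥Cfsg.Spor.M22).Prime := IsSimpleGroup.prime_card
  rw [hc] at hp
  norm_num at hp

theorem no_spor' {K : Type u} [Group K] [Finite K] [IsSimpleGroup K] {p : ℕ} (hp : p.Prime) (hp2 : p ≠ 2)
    (hK : IsLieTypeChar p K) {x : MulAut K} (hx : x ^ 2 = 1) {H : Subgroup K} (hH : H = fixedSubgroup x)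
    {A : Subgroup ↥H} (hn : A.Normal) (hA : IsComponent A) : ¬ IsSporadicGroup (↥A ⧸ center ↥A) := by
  subst hH
  exact Cfsg.Agent.H283.OddSpor.no_spor hp hp2 hK hx hA

theorem odd {G : Type u} [Group G] [Finite G] [IsSimpleGroup G] {p : ℕ} (hp : p.Prime) (hp2 : p ≠ 2)
    (hK : IsLieTypeChar p G) {f : G} (hf : f * f = 1)
    (hcard : Nat.card ↥(Cfsg.twoCoreOfCentralizer f) = 2 ^ 11)
    (hq : Nonempty (↥(centralizer ({f} : Set G)) ⧸ Cfsg.pCore 2 ↥(centralizer ({f} : Set G)) ≃*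
      MulAut ↥Cfsg.Spor.M22)) : False := by
  have : Fact p.Prime := ⟨hp⟩
  rcases Cfsg.Agent.H73.OC.oddCent hp2 hK hf with h | h
  · obtain ⟨e⟩ := hq
    have hs := SporadicA.MathieuRecog.simple_M22
    have hO : (Cfsg.pCore 2 ↥(centralizer ({f} : Set G))).Normal := inferInstance
    have hPG : IsPGroup 2 ↥(Cfsg.pCore 2 ↥(centralizer ({f} : Set G))) := IsPGroup.of_card (card_pCore hcard)
    obtain ⟨L, hLn, hL, ⟨i⟩⟩ := exists_comp na_M22 (by rw [card_mulAut, SporadicA.MathieuRecog.card_M22]) e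
      (fun L hL g hg x hx => h.two _ hO hPG L hL g hg x hx)
    refine no_spor' hp hp2 hK (x := MulAut.conj f) ?_ (CpAut.fixedSubgroup_conj f).symm hLn hL ?_
    · rw [← map_pow, pow_two, hf, map_one]
    · exact Or.inr (Or.inr (Or.inl ⟨i⟩))
  · apply ree_odd h
    refine dvd_trans ?_ (card_subgroup_dvd_card (centralizer ({f} : Set G)))
    rw [card_cent hcard hq]
    norm_num

end Cfsg.Agent.R2.H3.Odd
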