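import Cfsg.Agent.R2.H3.Num

/-!
# S3319: central quotients (helper3, second round)

`lift` : an involution of `X / Z(X)` lifts to an involution, and the orders of the centralisers correspond.
-/

set_option autoImplicit false

namespace Cfsg.Agent.R2.H3

open Subgroup

theorem card_comap {X Y : Type*} [Group X] [Group Y] [Finite X] (f : X →* Y) (hf : Function.Surjective f) (H : Subgroup Y) :
    Nat.card ↥(H.comap f) = Nat.card ↥H * Nat.card ↥f.ker := by
  have hY : Finite Y := Finite.of_surjective f hf
  have h1 := (H.comap f).card_mul_index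
  have h2 := H.card_mul_index
  have h3 := f.ker.card_mul_index
  have h4 : f.ker.index = Nat.card Y := by
    rw [Subgroup.index_ker, MonoidHom.range_eq_top.2 hf, card_top]
  rw [index_comap_of_surjective H hf] at h1
  rw [h4] at h3
  have h5 : 0 < H.index := Nat.pos_of_ne_zero H.index_ne_zero_of_finite
  apply Nat.eq_of_mul_eq_mul_right h5
  rw [h1, ← h3, ← h2]
  ring

/-- an involution of `X / Z(X)`, `Z(X)` of odd order -/
theorem exists_lift {X : Type*} [Group X] [Finite X] (ho : Odd (Nat.card ↥(center X))) (f : X ⧸ center X)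
    (hf : f ≠ 1) (hf2 : f * f = 1) : ∃ t : X, t ≠ 1 ∧ t * t = 1 ∧
      Nat.card ↥(centralizer ({t} : Set X)) = Nat.card ↥(centralizer ({f} : Set (X ⧸ center X))) * Nat.card ↥(center X) := by
  obtain ⟨x, rfl⟩ := QuotientGroup.mk'_surjective (center X) f
  set π := QuotientGroup.mk' (center X) with hπ
  have hk : ∀ y, π y = 1 ↔ y ∈ center X := fun y => QuotientGroup.eq_one_iff y
  have hz : x * x ∈ center X := by rw [← hk, map_mul, hf2]
  -- the lift
  obtain ⟨m, hm⟩ := ho
  set c := Nat.card ↥(center X) with hc
  have hzc : (x * x) ^ c = 1 := by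
    have h1 : (⟨x * x, hz⟩ : ↥(center X)) ^ c = 1 := pow_card_eq_one'
    exact congrArg Subtype.val h1
  let t := x ^ c
  have ht2 : t * t = 1 := by
    change x ^ c * x ^ c = 1
    rw [← (Commute.refl x).mul_pow, hzc]
  have hπt : π t = π x := by
    change π (x ^ c) = π x
    rw [map_pow, hm, pow_add, pow_mul, pow_one, pow_two, hf2, one_pow, one_mul]
  refine ⟨t, ?_, ht2, ?_⟩
  · intro h
    apply hf
    rw [← hπt, h, map_one]
  have h1 : (centralizer ({π x} : Set (X ⧸ center X))).comap π = centralizer ({t} : Set X) := by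
    ext g
    rw [mem_comap, mem_centralizer_singleton_iff, mem_centralizer_singleton_iff, ← hπt]
    constructor
    · intro h
      have h2 : g * t * g⁻¹ * t⁻¹ ∈ center X := by
        rw [← hk, map_mul, map_mul, map_mul, map_inv, map_inv, h]
        group
      set z := g * t * g⁻¹ * t⁻¹ with hzd
      have h3 : g * t * g⁻¹ = z * t := by rw [hzd]; group
      have h4 : (z * t) * (z * t) = 1 := by
        rw [← h3]
        calc g * t * g⁻¹ * (g * t * g⁻¹) = g * (t * t) * g⁻¹ := by group
          _ = 1 := by rw [ht2]; group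
      have h5 : z * z = 1 := by
        have h6 : t * z = z * t := mem_center_iff.1 h2 t
        calc z * z = z * z * (t * t) := by rw [ht2, mul_one]
          _ = z * (z * t) * t := by group
          _ = z * (t * z) * t := by rw [h6]
          _ = (z * t) * (z * t) := by group
          _ = 1 := h4
      have h7 : z ^ c = 1 := by
        have h8 : (⟨z, h2⟩ : ↥(center X)) ^ c = 1 := pow_card_eq_one'
        exact congrArg Subtype.val h8
      have h9 : z = 1 := by
        rw [hm, pow_add, pow_mul, pow_one, pow_two, h5, one_pow, one_mul] at h7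
        exact h7
      rw [h9, one_mul] at h3
      rw [mul_inv_eq_iff_eq_mul] at h3
      exact h3
    · intro h
      rw [← map_mul, h, map_mul]
  rw [← h1, card_comap π (QuotientGroup.mk'_surjective _), QuotientGroup.ker_mk']

/-- numbers -/
theorem two_part' {k E m d : ℕ} (hd : Odd d) (hm : Odd m) (h : 2 ^ 19 * 3465 * d = (2 ^ k) ^ E * m) : k * E = 19 := by
  rw [← pow_mul] at h
  have h1 : 2 ^ (k * E) ∣ 2 ^ 19 := by
    have h2 : Nat.Coprime (2 ^ (k * E)) (3465 * d) :=
      Nat.Coprime.pow_left _ (Nat.coprime_two_left.2 (Odd.mul (by decide) hd))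
    exact h2.dvd_of_dvd_mul_right (by rw [← mul_assoc, h]; exact dvd_mul_right _ _)
  have h3 : 2 ^ 19 ∣ 2 ^ (k * E) := by
    have h2 : Nat.Coprime (2 ^ 19) m := Nat.Coprime.pow_left _ (Nat.coprime_two_left.2 hm)
    exact h2.dvd_of_dvd_mul_right (by rw [← h, mul_assoc]; exact dvd_mul_right _ _)
  exact Nat.pow_right_injective (le_refl 2) (Nat.dvd_antisymm h1 h3)

end Cfsg.Agent.R2.H3
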